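import Mathlib

/-!
An equivariant idempotent obtained by averaging, when the centralizer algebra is small.
-/

set_option autoImplicit false
set_option linter.style.haveILetI false

namespace CfsgLib.M24Fusion

open Module

variable {M : Type*} [AddCommGroup M] [Module (ZMod 2) M]

theorem two_eq_zero_end (f : End (ZMod 2) M) : f + f = 0 := by
  ext x
  rw [LinearMap.add_apply, LinearMap.zero_apply, ← two_smul (ZMod 2), show (2 : ZMod 2) = 0 from rfl,
    zero_smul]

theorem add_one_pow_two_pow (f : End (ZMod 2) M) : ∀ j : ℕ, (f + 1) ^ 2 ^ j = f ^ 2 ^ j + 1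
  | 0 => by simp
  | j + 1 => by
    rw [pow_succ, pow_mul, add_one_pow_two_pow f j, pow_mul, sq, sq, add_mul, mul_add, mul_add,
      mul_one, one_mul, mul_one, add_assoc,
      show f ^ 2 ^ j + (f ^ 2 ^ j + 1) = 1 by rw [← add_assoc, two_eq_zero_end, zero_add]]

theorem exists_idempotent_pow [Finite M] (f : End (ZMod 2) M) :
    ∃ N, 1 ≤ N ∧ IsIdempotentElem (f ^ N) := by
  haveI : Finite (End (ZMod 2) M) := Finite.of_injective _ DFunLike.coe_injective
  obtain ⟨i, j, hne, h⟩ := Finite.exists_ne_map_eq_of_infinite fun k : ℕ => f ^ k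
  wlog hij : i < j generalizing i j
  · exact this j i (Ne.symm hne) h.symm (lt_of_le_of_ne (not_lt.1 hij) (Ne.symm hne))
  have hper : ∀ t, i ≤ t → ∀ k : ℕ, f ^ (t + k * (j - i)) = f ^ t := by
    intro t ht k
    induction k with
    | zero => simp
    | succ k ih =>
      rw [show t + (k + 1) * (j - i) = j + (t - i + k * (j - i)) by rw [Nat.succ_mul]; omega, pow_add,
        show f ^ j = f ^ i from h.symm, ← pow_add,
        show i + (t - i + k * (j - i)) = t + k * (j - i) by omega, ih]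
  refine ⟨(i + 1) * (j - i), Nat.mul_pos (by omega) (by omega), ?_⟩
  rw [IsIdempotentElem, ← pow_add, hper]
  exact le_trans (Nat.le_succ i) (Nat.le_mul_of_pos_right _ (by omega))

theorem exists_equivariant_idempotent {N : Type*} [Group N] [Finite N] [Finite M]
    (ρ : Representation (ZMod 2) N M) (R : Subgroup N) (hR : Odd R.index)
    (e : End (ZMod 2) M) (he : ∀ r ∈ R, ρ r * e = e * ρ r)
    (htr : LinearMap.trace (ZMod 2) M e = 1) (hdim : (finrank (ZMod 2) M : ZMod 2) = 0)
    (huni : ∀ f : End (ZMod 2) M, (∀ r ∈ R, ρ r * f = f * ρ r) →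
      ∀ m, Odd m → f ^ m = 1 → f = 1) :
    ∃ p : End (ZMod 2) M, IsIdempotentElem p ∧ p ≠ 0 ∧ p ≠ 1 ∧ ∀ n, ρ n * p = p * ρ n := by
  classical
  let F : N → End (ZMod 2) M := fun n => ρ n * e * ρ n⁻¹
  have hF : ∀ n, ∀ r ∈ R, F (n * r) = F n := fun n r hr => by
    show ρ (n * r) * e * ρ (n * r)⁻¹ = ρ n * e * ρ n⁻¹
    rw [map_mul, mul_assoc (ρ n), he r hr, mul_inv_rev, map_mul, ← mul_assoc, ← mul_assoc,
      mul_assoc (ρ n * e), ← map_mul, mul_inv_cancel, map_one, mul_one]
  let Fq : N ⧸ R → End (ZMod 2) M := Quotient.lift F fun a b hab => by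
    have : a⁻¹ * b ∈ R := QuotientGroup.leftRel_apply.mp hab
    rw [← hF a _ this, mul_inv_cancel_left]
  letI : Fintype (N ⧸ R) := Fintype.ofFinite _
  let q : End (ZMod 2) M := ∑ x, Fq x
  have hq : ∀ n, ρ n * q = q * ρ n := by
    intro n
    have h1 : ρ n * q * ρ n⁻¹ = q := by
      rw [Finset.mul_sum, Finset.sum_mul]
      refine Finset.sum_equiv (MulAction.toPerm n) (by simp) fun x _ => ?_
      induction x using QuotientGroup.induction_on with
      | H a =>
        show ρ n * (ρ a * e * ρ a⁻¹) * ρ n⁻¹ = ρ (n * a) * e * ρ (n * a)⁻¹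
        rw [map_mul, mul_inv_rev, map_mul]
        simp only [mul_assoc]
    calc ρ n * q = ρ n * q * ρ n⁻¹ * ρ n := by
          rw [mul_assoc _ (ρ n⁻¹), ← map_mul, inv_mul_cancel, map_one, mul_one]
      _ = q * ρ n := by rw [h1]
  have hqtr : LinearMap.trace (ZMod 2) M q = 1 := by
    rw [map_sum, Finset.sum_eq_card_nsmul (b := (1 : ZMod 2)) (fun x _ => by
      induction x using QuotientGroup.induction_on with
      | H a =>
        show LinearMap.trace (ZMod 2) M (ρ a * e * ρ a⁻¹) = 1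
        rw [LinearMap.trace_mul_comm, ← mul_assoc, ← map_mul, inv_mul_cancel, map_one, one_mul,
          htr]), Finset.card_univ, ← Nat.card_eq_fintype_card, ← Subgroup.index_eq_card,
      nsmul_eq_mul, mul_one]
    exact ZMod.natCast_eq_one_iff_odd.mpr hR
  obtain ⟨k, hk1, hk⟩ := exists_idempotent_pow q
  have hcomm : ∀ n, ρ n * q ^ k = q ^ k * ρ n := fun n => (Commute.pow_right (hq n) k).eq
  refine ⟨q ^ k, hk, fun h0 => ?_, fun h1 => ?_, hcomm⟩
  · have h := (LinearMap.isNilpotent_trace_of_isNilpotent (R := ZMod 2) (M := M) ⟨k, h0⟩).eq_zero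
    rw [hqtr] at h
    exact one_ne_zero h
  · obtain ⟨a, m, hm, hkm⟩ := Nat.exists_eq_two_pow_mul_odd (show k ≠ 0 by omega)
    have h2 : q ^ 2 ^ a = 1 := huni _ (fun r _ => (Commute.pow_right (hq r) _).eq) m hm
      (by rw [← pow_mul, ← hkm, h1])
    have h3 : IsNilpotent (q + 1) := ⟨2 ^ a, by rw [add_one_pow_two_pow, h2, two_eq_zero_end]⟩
    have h := (LinearMap.isNilpotent_trace_of_isNilpotent (R := ZMod 2) (M := M) h3).eq_zero
    rw [map_add, hqtr, LinearMap.trace_one, hdim, add_zero] at h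
    exact one_ne_zero h

end CfsgLib.M24Fusion
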