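import Cfsg.Agent.Lib.TwoGroups.FusionTools

/-!
Local data of the central quotient of a Sylow 2-subgroup of `M₂₄`: a group of order 512 with an
elementary abelian normal subgroup of order 64 on which the quotient, dihedral of order 8, acts as
the sum of a natural module and its dual.
-/

set_option autoImplicit false

namespace CfsgLib.M24Fusion

open Subgroup
open scoped commutatorElement

variable {G : Type*} [Group G]

/-- The elements of `A` fixed by `S`. -/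
def fix (S A : Subgroup G) : Subgroup G := A ⊓ centralizer (S : Set G)

/-- The local data. -/
structure Loc (S A : Subgroup G) : Prop where
  le : A ≤ S
  cardS : Nat.card S = 512
  cardA : Nat.card A = 64
  conjA : ∀ s ∈ S, ∀ a ∈ A, s * a * s⁻¹ ∈ A
  commA : ∀ a ∈ A, ∀ b ∈ A, a * b = b * a
  sqA : ∀ a ∈ A, a * a = 1
  unique : ∀ B : Subgroup G, B ≤ S → (∀ a ∈ B, ∀ b ∈ B, a * b = b * a) → Nat.card B = 64 → B = A
  fix_one : ∀ x ∈ S, x ∉ A → x * x ∈ A → Nat.card (A ⊓ centralizer {x} : Subgroup G) = 16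
  fix_le : ∀ x ∈ S, ∀ y ∈ S, x ∉ A → y ∉ A → x⁻¹ * y ∉ A →
    Nat.card (A ⊓ centralizer {x, y} : Subgroup G) ≤ 8
  fix_comm : ∀ x ∈ S, ∀ y ∈ S, x ∉ A → y ∉ A → x⁻¹ * y ∉ A →
    Nat.card (A ⊓ centralizer {x, y} : Subgroup G) = 8 →
      ∀ a ∈ A, ⁅a, x⁆ ∈ centralizer ({x, y} : Set G)
  card_fix : Nat.card (fix S A) = 4
  derived : ∃ x₀ ∈ S, ∃ y₀ ∈ S, ⁅x₀, y₀⁆ ∉ A ∧
    (∀ x ∈ S, x ∉ A → ⁅x₀, y₀⁆⁻¹ * x ∈ A ∨ ∃ y ∈ S, ⁅x₀, y₀⁆⁻¹ * ⁅x, y⁆ ∈ A) ∧
    ∀ z ∈ fix S A, ∃ a ∈ A, ⁅a, ⁅x₀, y₀⁆⁆ = z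
  half : ∃ x ∈ S, (∃ a ∈ A, ⁅a, x⁆ ∈ fix S A ∧ ⁅a, x⁆ ≠ 1) ∧
    ∃ z ∈ fix S A, ∀ a ∈ A, ⁅a, x⁆ ≠ z
  split : ∃ V W : Subgroup G, V ≤ A ∧ W ≤ A ∧ Nat.card V = 8 ∧ Nat.card W = 8 ∧ V ⊓ W = ⊥ ∧
    (∀ s ∈ S, ∀ v ∈ V, s * v * s⁻¹ ∈ V) ∧ ∀ s ∈ S, ∀ w ∈ W, s * w * s⁻¹ ∈ W

theorem mem_centralizer_pair {x y b : G} :
    b ∈ centralizer ({x, y} : Set G) ↔ b * x = x * b ∧ b * y = y * b := by
  rw [mem_centralizer_iff]
  constructor
  · exact fun h => ⟨(h x (Or.inl rfl)).symm, (h y (Or.inr rfl)).symm⟩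
  · rintro ⟨h1, h2⟩ g (rfl | rfl)
    exacts [h1.symm, h2.symm]

section Transport

variable {H : Type*} [Group H] (f : G →* H)

theorem card_map (hf : Function.Injective f) (B : Subgroup G) :
    Nat.card (B.map f) = Nat.card B :=
  (Nat.card_congr (B.equivMapOfInjective f hf).toEquiv).symm

theorem map_inf_centralizer (hf : Function.Injective f) (A : Subgroup G) (X : Set G) :
    (A ⊓ centralizer X).map f = A.map f ⊓ centralizer (f '' X) := by
  ext y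
  constructor
  · rintro ⟨a, ha, rfl⟩
    refine ⟨⟨a, ha.1, rfl⟩, ?_⟩
    rintro _ ⟨x, hx, rfl⟩
    rw [← map_mul, ← map_mul, (mem_centralizer_iff.1 ha.2) x hx]
  · rintro ⟨⟨a, ha, rfl⟩, hy⟩
    refine ⟨a, ⟨ha, fun x hx => hf ?_⟩, rfl⟩
    rw [map_mul, map_mul]
    exact hy (f x) ⟨x, hx, rfl⟩

/-- The data pass along injective homomorphisms. -/
theorem Loc.map (hf : Function.Injective f) {S A : Subgroup G} (h : Loc S A) :
    Loc (S.map f) (A.map f) := by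
  have hm : ∀ (B : Subgroup G) (y : G), f y ∈ B.map f ↔ y ∈ B := fun B y =>
    Subgroup.mem_map_iff_mem hf
  have hfix : fix (S.map f) (A.map f) = (fix S A).map f := by
    rw [fix, fix, map_inf_centralizer f hf, coe_map]
  refine
    { le := map_mono h.le
      cardS := by rw [card_map f hf, h.cardS]
      cardA := by rw [card_map f hf, h.cardA]
      conjA := ?_, commA := ?_, sqA := ?_, unique := ?_, fix_one := ?_, fix_le := ?_
      fix_comm := ?_, card_fix := by rw [hfix, card_map f hf, h.card_fix]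
      derived := ?_, half := ?_, split := ?_ }
  · rintro _ ⟨s, hs, rfl⟩ _ ⟨a, ha, rfl⟩
    rw [← map_inv, ← map_mul, ← map_mul, hm]
    exact h.conjA s hs a ha
  · rintro _ ⟨a, ha, rfl⟩ _ ⟨b, hb, rfl⟩
    rw [← map_mul, ← map_mul, h.commA a ha b hb]
  · rintro _ ⟨a, ha, rfl⟩
    rw [← map_mul, h.sqA a ha, map_one]
  · intro B hB hcomm hcard
    have hle : B ≤ f.range := fun b hb => by
      obtain ⟨s, -, rfl⟩ := hB hb
      exact ⟨s, rfl⟩
    have hBe : (B.comap f).map f = B := map_comap_eq_self hle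
    have := h.unique (B.comap f) (fun x hx => (hm S x).1 (hB hx))
      (fun a ha b hb => hf (by rw [map_mul, map_mul]; exact hcomm _ ha _ hb))
      (by rw [← card_map f hf, hBe, hcard])
    rw [← hBe, this]
  · rintro _ ⟨x, hx, rfl⟩ hxA hxx
    rw [← Set.image_singleton, ← map_inf_centralizer f hf, card_map f hf]
    rw [← map_mul, hm] at hxx
    exact h.fix_one x hx (fun h' => hxA ((hm _ _).2 h')) hxx
  · rintro _ ⟨x, hx, rfl⟩ _ ⟨y, hy, rfl⟩ hxA hyA hxy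
    rw [← map_inv, ← map_mul, hm] at hxy
    rw [← Set.image_pair, ← map_inf_centralizer f hf, card_map f hf]
    exact h.fix_le x hx y hy (fun h' => hxA ((hm _ _).2 h')) (fun h' => hyA ((hm _ _).2 h')) hxy
  · rintro _ ⟨x, hx, rfl⟩ _ ⟨y, hy, rfl⟩ hxA hyA hxy hc _ ⟨a, ha, rfl⟩
    rw [← map_inv, ← map_mul, hm] at hxy
    rw [← Set.image_pair, ← map_inf_centralizer f hf, card_map f hf] at hc
    have := h.fix_comm x hx y hy (fun h' => hxA ((hm _ _).2 h')) (fun h' => hyA ((hm _ _).2 h'))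
      hxy hc a ha
    rw [mem_centralizer_pair] at this ⊢
    rw [← map_commutatorElement]
    exact ⟨by rw [← map_mul, ← map_mul, this.1], by rw [← map_mul, ← map_mul, this.2]⟩
  · obtain ⟨x₀, hx₀, y₀, hy₀, hc, hall, hz⟩ := h.derived
    refine ⟨f x₀, ⟨x₀, hx₀, rfl⟩, f y₀, ⟨y₀, hy₀, rfl⟩, ?_, ?_, ?_⟩
    · rw [← map_commutatorElement, hm]; exact hc
    · rintro _ ⟨x, hx, rfl⟩ hxA
      rw [← map_commutatorElement]
      rcases hall x hx fun h' => hxA ((hm _ _).2 h') with h1 | ⟨y, hy, h1⟩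
      · left; rw [← map_inv, ← map_mul, hm]; exact h1
      · refine Or.inr ⟨f y, ⟨y, hy, rfl⟩, ?_⟩
        rw [← map_commutatorElement, ← map_inv, ← map_mul, hm]
        exact h1
    · rw [hfix]
      rintro _ ⟨z, hz', rfl⟩
      obtain ⟨a, ha, rfl⟩ := hz z hz'
      exact ⟨f a, ⟨a, ha, rfl⟩, by rw [map_commutatorElement, map_commutatorElement]⟩
  · obtain ⟨x, hx, ⟨a, ha, h1, h2⟩, z, hz, h3⟩ := h.half
    refine ⟨f x, ⟨x, hx, rfl⟩, ⟨f a, ⟨a, ha, rfl⟩, ?_, ?_⟩, f z, ?_, ?_⟩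
    · rw [hfix, ← map_commutatorElement, hm]; exact h1
    · rw [← map_commutatorElement]; exact fun e => h2 (hf (e.trans (map_one f).symm))
    · rw [hfix, hm]; exact hz
    · rintro _ ⟨b, hb, rfl⟩ e
      rw [← map_commutatorElement] at e
      exact h3 b hb (hf e)
  · obtain ⟨V, W, hV, hW, cV, cW, hd, iV, iW⟩ := h.split
    refine ⟨V.map f, W.map f, map_mono hV, map_mono hW, by rw [card_map f hf, cV],
      by rw [card_map f hf, cW], by rw [← map_inf V W f hf, hd, Subgroup.map_bot], ?_, ?_⟩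
    · rintro _ ⟨s, hs, rfl⟩ _ ⟨v, hv, rfl⟩
      rw [← map_inv, ← map_mul, ← map_mul, hm]
      exact iV s hs v hv
    · rintro _ ⟨s, hs, rfl⟩ _ ⟨v, hv, rfl⟩
      rw [← map_inv, ← map_mul, ← map_mul, hm]
      exact iW s hs v hv

end Transport

end CfsgLib.M24Fusion
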