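import Cfsg.Agent.Lib.M24Fusion.Basic
import Cfsg.Agent.Lib.AltEightThree.Nilp

/-!
The abelian subgroup of order 64 is strongly closed.
-/

set_option autoImplicit false

namespace CfsgLib.M24Fusion

open Subgroup CfsgLib.TwoGroups.FT
open scoped commutatorElement

variable {G : Type*} [Group G] {S : Sylow 2 G} {A : Subgroup G}

theorem cj_inf (g : G) (K L : Subgroup G) : cj g (K ⊓ L) = cj g K ⊓ cj g L := by
  ext u
  simp only [mem_cj, mem_inf]

theorem exists_mul_of_mem_sup {H N : Subgroup G} (hn : H ≤ normalizer (N : Set G)) {x : G}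
    (hx : x ∈ H ⊔ N) : ∃ a ∈ H, ∃ v ∈ N, a * v = x := by
  have h1 : x ∈ ((H ⊔ N : Subgroup G) : Set G) := hx
  rw [coe_mul_of_left_le_normalizer_right H N hn] at h1
  exact h1

theorem isPGroup_A (h : Loc (S : Subgroup G) A) : IsPGroup 2 A := S.isPGroup'.to_le h.le

variable [Finite G]

/-- A 2-group containing `A` is conjugate into `S` by an element of the normalizer. -/
theorem exists_normalizer_conj (h : Loc (S : Subgroup G) A) {P : Subgroup G} (hP : IsPGroup 2 P)
    (hAP : A ≤ P) : ∃ k ∈ normalizer (A : Set G), cj k P ≤ (S : Subgroup G) := by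
  obtain ⟨k, hk⟩ := CfsgLib.Involutions.exists_conj_le_sylow hP S
  refine ⟨k, mem_normalizer_of_cj (h.unique (cj k A) ?_ ?_ (by rw [card_cj, h.cardA])), ?_⟩
  · rintro _ ⟨a, ha, rfl⟩; exact hk a (hAP ha)
  · rintro _ ⟨a, ha, rfl⟩ _ ⟨b, hb, rfl⟩
    rw [← map_mul, ← map_mul, h.commA a ha b hb]
  · rintro _ ⟨u, hu, rfl⟩; exact hk u hu

/-- A 2-group contains at most one conjugate of `A`. -/
theorem cj_eq (h : Loc (S : Subgroup G) A) {P : Subgroup G} (hP : IsPGroup 2 P)
    {g g' : G} (h1 : cj g A ≤ P) (h2 : cj g' A ≤ P) : cj g A = cj g' A := by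
  obtain ⟨k, hk⟩ := CfsgLib.Involutions.exists_conj_le_sylow hP S
  have key : ∀ x : G, cj x A ≤ P → cj (k * x) A = A := fun x hx =>
    h.unique _ (by
      rintro _ ⟨a, ha, rfl⟩
      show k * x * a * (k * x)⁻¹ ∈ (S : Subgroup G)
      rw [show k * x * a * (k * x)⁻¹ = k * (x * a * x⁻¹) * k⁻¹ by group]
      exact hk _ (hx ⟨a, ha, rfl⟩))
      (by rintro _ ⟨a, ha, rfl⟩ _ ⟨b, hb, rfl⟩; rw [← map_mul, ← map_mul, h.commA a ha b hb])
      (by rw [card_cj, h.cardA])
  apply cj_injective k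
  rw [cj_cj, cj_cj, key g h1, key g' h2]

/-- Two conjugates of `A` in a subgroup are conjugate there. -/
theorem exists_cj_eq (h : Loc (S : Subgroup G) A) {M : Subgroup G} {g g' : G} (hg : cj g A ≤ M)
    (hg' : cj g' A ≤ M) : ∃ m ∈ M, cj m (cj g A) = cj g' A := by
  have hp : ∀ x : G, IsPGroup 2 (cj x A) := fun x => isPGroup_cj (isPGroup_A h)
  obtain ⟨R, hR⟩ := ((hp g').of_injective (subgroupOfEquivOfLe hg').toMonoidHom
    (subgroupOfEquivOfLe hg').injective).exists_le_sylow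
  have hle : cj g' A ≤ (R : Subgroup M).map M.subtype := fun a ha =>
    ⟨⟨a, hg' ha⟩, hR (show (⟨a, hg' ha⟩ : M) ∈ (cj g' A).subgroupOf M from ha), rfl⟩
  have hodd : Odd (((R : Subgroup M).map M.subtype).relIndex M) := by
    have h2 : ((R : Subgroup M).map M.subtype).relIndex M = (R : Subgroup M).index := by
      rw [← Subgroup.relIndex_top_right (H := (R : Subgroup M)),
        ← Subgroup.relIndex_map_map_of_injective (H := (R : Subgroup M)) (K := ⊤) (f := M.subtype)
          M.subtype_injective, ← MonoidHom.range_eq_map, Subgroup.range_subtype]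
    rw [h2, Nat.odd_iff]
    have := R.not_dvd_index
    omega
  obtain ⟨m, hm, hmle⟩ := exists_conj_into (R.isPGroup'.map M.subtype) (map_subtype_le _) hodd
    (hp g) hg
  refine ⟨m, hm, ?_⟩
  rw [cj_cj] at hmle ⊢
  exact cj_eq h (R.isPGroup'.map M.subtype) hmle hle

/-- The data of a subgroup `E = ⟨u⟩ C_A(u)`. -/
structure Piece (S : Sylow 2 G) (A E : Subgroup G) : Prop where
  le : E ≤ (S : Subgroup G)
  card : Nat.card E = 32
  cardInf : Nat.card (A ⊓ E : Subgroup G) = 16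
  comm : ∀ a ∈ E, ∀ b ∈ E, a * b = b * a
  sq : ∀ a ∈ E, a * a = 1

/-- Any elementary abelian subgroup of order 32 of `S` is normalized by `A`. -/
theorem le_normalizer_of_card (h : Loc (S : Subgroup G) A) {F : Subgroup G}
    (hF : F ≤ (S : Subgroup G)) (hcard : Nat.card F = 32)
    (hc : ∀ a ∈ F, ∀ b ∈ F, a * b = b * a) (hsq : ∀ a ∈ F, a * a = 1) :
    A ≤ normalizer (F : Set G) := by
  have hinf : ∀ f ∈ F, A ⊓ F ≤ A ⊓ centralizer ({f} : Set G) := fun f hf b hb =>
    ⟨hb.1, mem_centralizer_singleton_iff.2 (hc b hb.2 f hf)⟩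
  -- `F` does not cover the quotient
  have key : ∀ a ∈ A, ∀ f ∈ F, ⁅a, f⁆ ∈ F := by
    intro a ha f hf
    by_cases hfA : f ∈ A
    · rw [commutatorElement_eq_one_iff_mul_comm.2 (h.commA a ha f hfA)]; exact one_mem _
    by_cases hone : ∀ y ∈ F, y ∈ A ∨ f⁻¹ * y ∈ A
    · -- one coset
      have hsum : 32 ≤ 2 * Nat.card (A ⊓ F : Subgroup G) := by
        classical
        let φ : F → Bool × (A ⊓ F : Subgroup G) := fun y =>
          if hy : (y : G) ∈ A then (false, ⟨y, hy, y.2⟩)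
          else (true, ⟨f⁻¹ * y, (hone y y.2).resolve_left hy, F.mul_mem (F.inv_mem hf) y.2⟩)
        have hφ : Function.Injective φ := by
          intro y y' he
          simp only [φ] at he
          split_ifs at he with h1 h2 <;>
            simp only [Prod.mk.injEq, reduceCtorEq, false_and, true_and] at he
          · exact Subtype.ext (Subtype.ext_iff.1 he :)
          · exact Subtype.ext (mul_left_cancel (Subtype.ext_iff.1 he :))
        have := Nat.card_le_card_of_injective φ hφ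
        rwa [Nat.card_prod, Nat.card_eq_fintype_card (α := Bool), Fintype.card_bool, hcard] at this
      have h16 := h.fix_one f (hF hf) hfA (by rw [hsq f hf]; exact one_mem _)
      have heq : A ⊓ F = A ⊓ centralizer ({f} : Set G) :=
        eq_of_le_of_card_ge (hinf f hf) (by omega)
      have hmem : ⁅a, f⁆ ∈ A := by
        rw [commutatorElement_def, mul_assoc a f, mul_assoc a]
        exact mul_mem ha (h.conjA f (hF hf) _ (inv_mem ha))
      have hfi : f⁻¹ = f := inv_eq_of_mul_eq_one_right (hsq f hf)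
      have hki : ∀ k ∈ A, k⁻¹ = k := fun k hk => inv_eq_of_mul_eq_one_right (h.sqA k hk)
      refine (heq.symm.le (show ⁅a, f⁆ ∈ A ⊓ centralizer ({f} : Set G) from
        ⟨hmem, mem_centralizer_singleton_iff.2 ?_⟩)).2
      -- conjugation by `f` inverts the commutator
      have h1 : f * ⁅a, f⁆ * f⁻¹ = ⁅a, f⁆⁻¹ := by
        simp only [commutatorElement_def, mul_inv_rev, hki a ha, hfi]
        rw [show f * (a * f * a * f) * f = f * a * f * a * (f * f) by group, hsq f hf, mul_one]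
        simp only [mul_assoc]
      rw [hki _ hmem] at h1
      exact (mul_inv_eq_iff_eq_mul.1 h1).symm
    · push Not at hone
      obtain ⟨y, hy, hyA, hfy⟩ := hone
      have h8 := h.fix_le f (hF hf) y (hF hy) hfA hyA hfy
      have hle : A ⊓ F ≤ A ⊓ centralizer ({f, y} : Set G) := fun b hb =>
        ⟨hb.1, mem_centralizer_pair.2 ⟨hc b hb.2 f hf, hc b hb.2 y hy⟩⟩
      have hge : 8 ≤ Nat.card (A ⊓ F : Subgroup G) := by
        have hrel : A.relIndex F ≤ 4 := by
          have h1 : A.relIndex F ≤ 8 ∧ (A.relIndex F = 8 → False) := by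
            set A' := A.subgroupOf (S : Subgroup G)
            set F' := F.subgroupOf (S : Subgroup G)
            haveI hn : A'.Normal := ⟨fun x hx s => h.conjA s s.2 x hx⟩
            have hidx : A'.index = 8 := by
              have := A'.card_mul_index
              rw [Nat.card_congr (subgroupOfEquivOfLe h.le).toEquiv, h.cardA, h.cardS] at this
              omega
            have hrr : A'.relIndex F' = A.relIndex F := relIndex_subgroupOf hF
            refine ⟨hrr ▸ hidx ▸ Nat.le_of_dvd (Nat.pos_of_ne_zero index_ne_zero_of_finite)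
              (relIndex_dvd_index_of_normal A' F'), fun h8' => ?_⟩
            -- the quotient would be abelian
            have hmap : F'.map (QuotientGroup.mk' A') = ⊤ := by
              refine eq_top_of_card_eq _ ?_
              rw [← index_eq_card, hidx]
              have := Subgroup.relIndex_ker F' (QuotientGroup.mk' A')
              rw [QuotientGroup.ker_mk', hrr, h8'] at this
              exact this.symm
            obtain ⟨x₀, hx₀, y₀, hy₀, hcA, -, -⟩ := h.derived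
            have hcc : QuotientGroup.mk' A' ⁅(⟨x₀, hx₀⟩ : (S : Subgroup G)), ⟨y₀, hy₀⟩⁆ = 1 := by
              have hxm : QuotientGroup.mk' A' ⟨x₀, hx₀⟩ ∈ F'.map (QuotientGroup.mk' A') := hmap ▸ mem_top _
              have hym : QuotientGroup.mk' A' ⟨y₀, hy₀⟩ ∈ F'.map (QuotientGroup.mk' A') := hmap ▸ mem_top _
              obtain ⟨x, hx, hxe⟩ := hxm
              obtain ⟨z, hz, hze⟩ := hym
              rw [map_commutatorElement, ← hxe, ← hze, ← map_commutatorElement,
                show ⁅x, z⁆ = 1 from commutatorElement_eq_one_iff_mul_comm.2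
                  (Subtype.ext (hc _ hx _ hz)), map_one]
            rw [QuotientGroup.mk'_apply, QuotientGroup.eq_one_iff] at hcc
            exact hcA hcc
          have hd : A.relIndex F ∣ 2 ^ 5 := ⟨Nat.card (A.subgroupOf F), by
            rw [show (2:ℕ) ^ 5 = Nat.card F by rw [hcard]; rfl, ← (A.subgroupOf F).card_mul_index,
              mul_comm]
            rfl⟩
          obtain ⟨i, hi, hie⟩ := (Nat.dvd_prime_pow Nat.prime_two).1 hd
          obtain ⟨h2, h3⟩ := h1
          rcases Nat.lt_or_ge i 3 with h4 | h4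
          · exact hie.le.trans (Nat.pow_le_pow_right two_pos (Nat.le_of_lt_succ h4))
          · refine (h3 (le_antisymm h2 ?_)).elim
            exact hie ▸ Nat.pow_le_pow_right two_pos h4
        have h1 := (A.subgroupOf F).card_mul_index
        change _ * A.relIndex F = _ at h1
        rw [← inf_subgroupOf_right, Nat.card_congr (subgroupOfEquivOfLe inf_le_right).toEquiv,
          hcard] at h1
        nlinarith
      have heq : A ⊓ F = A ⊓ centralizer ({f, y} : Set G) :=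
        eq_of_le_of_card_ge hle (h8.trans hge)
      have h88 : Nat.card (A ⊓ centralizer ({f, y} : Set G) : Subgroup G) = 8 :=
        le_antisymm h8 (hge.trans (Subgroup.card_le_of_le hle))
      refine (heq.symm.le (show ⁅a, f⁆ ∈ A ⊓ centralizer ({f, y} : Set G) from
        ⟨?_, h.fix_comm f (hF hf) y (hF hy) hfA hyA hfy h88 a ha⟩)).2
      rw [commutatorElement_def, mul_assoc a f, mul_assoc a]
      exact mul_mem ha (h.conjA f (hF hf) _ (inv_mem ha))
  intro a ha
  refine mem_normalizer_of_cj (eq_of_le_of_card_ge ?_ (card_cj a F).ge)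
  rintro _ ⟨f, hf, rfl⟩
  show a * f * a⁻¹ ∈ F
  rw [show a * f * a⁻¹ = ⁅a, f⁆ * f by rw [commutatorElement_def]; group]
  exact mul_mem (key a ha f hf) hf

/-- The intersection with `A` is invariant under the normalizer. -/
theorem Piece.inf_invariant (h : Loc (S : Subgroup G) A) {E : Subgroup G} (hE : Piece S A E)
    {x : G} (hx : x ∈ normalizer (E : Set G)) : cj x (A ⊓ E) = A ⊓ E := by
  by_contra hne
  set C := A ⊓ E with hC
  have hAE : A ≤ normalizer (E : Set G) := le_normalizer_of_card h hE.le hE.card hE.comm hE.sq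
  have hxE : cj x E = E := cj_eq_of_mem_normalizer hx
  have hCE : C ≤ E := inf_le_right
  have hC2E : cj x C ≤ E := (cj_mono hCE).trans hxE.le
  have hA2 : cj x A ⊓ E = cj x C := by
    conv_lhs => rw [← hxE]
    rw [← cj_inf]
  -- the intersection of the two hyperplanes
  set D := C ⊓ cj x C with hD
  obtain ⟨u, huE, huA⟩ : ∃ u ∈ E, u ∉ A := by
    by_contra! hh
    have := Subgroup.card_le_of_le (show E ≤ A ⊓ E from fun y hy => ⟨hh y hy, hy⟩)
    rw [hE.card, hE.cardInf] at this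
    omega
  have hidx : ∀ K : Subgroup G, K ≤ E → Nat.card K = 16 → ∀ y ∈ E, y ∉ K → ∀ w ∈ E,
      w ∈ K ∨ y⁻¹ * w ∈ K := by
    intro K hK hKc y hy hyK w hw
    set K' := K.subgroupOf E
    have hi : K'.index = 2 := by
      have := K'.card_mul_index
      rw [Nat.card_congr (subgroupOfEquivOfLe hK).toEquiv, hKc, hE.card] at this
      omega
    have := (Subgroup.mul_mem_iff_of_index_two hi (a := (⟨y, hy⟩ : E)⁻¹) (b := ⟨w, hw⟩))
    by_cases hwK : w ∈ K
    · exact Or.inl hwK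
    · refine Or.inr (this.2 ⟨fun h' => absurd ?_ hyK, fun h' => absurd h' hwK⟩)
      exact inv_inv y ▸ K.inv_mem h'
  have hDcard : Nat.card D = 8 := by
    have hlt : D ≠ C := by
      intro he
      exact hne (eq_of_le_of_card_ge (inf_eq_left.1 he) (card_cj x C).le).symm
    obtain ⟨c, hcC, hcD⟩ : ∃ c ∈ C, c ∉ cj x C := by
      by_contra! hh
      exact hlt (inf_eq_left.2 hh)
    set D' := D.subgroupOf C
    have hi2 : D'.index = 2 := by
      rw [Subgroup.index_eq_two_iff']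
      refine ⟨⟨c, hcC⟩, fun w => ?_⟩
      rcases hidx (cj x C) hC2E (by rw [card_cj, hC, hE.cardInf]) c (hCE hcC) hcD w (hCE w.2) with h1 | h1
      · refine Or.inr ⟨?_, fun h2 => hcD ?_⟩
        · exact ⟨w.2, h1⟩
        · have h3 : c * (w : G) ∈ cj x C := h2.2
          exact (Subgroup.mul_mem_cancel_right _ h1).1 h3
      · refine Or.inl ⟨?_, fun h2 => hcD ?_⟩
        · have hci : c⁻¹ = c := inv_eq_of_mul_eq_one_right (hE.sq c (hCE hcC))
          exact ⟨C.mul_mem hcC w.2, show c * (w : G) ∈ cj x C by rwa [hci] at h1⟩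
        · have h3 : (w : G) ∈ cj x C := h2.2
          exact inv_inv c ▸ inv_mem ((Subgroup.mul_mem_cancel_right _ h3).1 h1)
    have := D'.card_mul_index
    rw [hi2, Nat.card_congr (subgroupOfEquivOfLe (inf_le_left : D ≤ C)).toEquiv, hC,
      hE.cardInf] at this
    exact (Nat.eq_of_mul_eq_mul_right two_pos (this.trans (by norm_num : 16 = 8 * 2)))
  -- the stabilizer of the series
  have hmemN : ∀ g ∈ normalizer (E : Set G), ∀ e ∈ E, g * e * g⁻¹ ∈ E := fun g hg e he =>
    (mem_normalizer_iff.1 hg e).1 he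
  let Hc : Subgroup G := normalizer (E : Set G) ⊓ centralizer (D : Set G)
  let U : Subgroup G :=
    { carrier := {g | g ∈ Hc ∧ ∀ e ∈ E, g * e * g⁻¹ * e⁻¹ ∈ D}
      one_mem' := ⟨one_mem _, fun e _ => by simp⟩
      mul_mem' := by
        rintro g g' ⟨hg, h1⟩ ⟨hg', h2⟩
        refine ⟨mul_mem hg hg', fun e he => ?_⟩
        have hd := h2 e he
        have hfix : g * (g' * e * g'⁻¹ * e⁻¹) * g⁻¹ = g' * e * g'⁻¹ * e⁻¹ :=
          mul_inv_eq_iff_eq_mul.2 (mem_centralizer_iff.1 hg.2 _ hd).symm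
        rw [show g * g' * e * (g * g')⁻¹ * e⁻¹ =
          g * (g' * e * g'⁻¹ * e⁻¹) * g⁻¹ * (g * e * g⁻¹ * e⁻¹) by group, hfix]
        exact mul_mem hd (h1 e he)
      inv_mem' := by
        rintro g ⟨hg, h1⟩
        refine ⟨inv_mem hg, fun e he => ?_⟩
        have he' : g⁻¹ * e * g⁻¹⁻¹ ∈ E := hmemN _ (inv_mem hg.1) e he
        have h2 := inv_mem (h1 _ he')
        rwa [show (g * (g⁻¹ * e * g⁻¹⁻¹) * g⁻¹ * (g⁻¹ * e * g⁻¹⁻¹)⁻¹)⁻¹ = g⁻¹ * e * g⁻¹⁻¹ * e⁻¹ by
          group] at h2 }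
  have hUH : U ≤ Hc := fun g hg => hg.1
  have hUn : ∀ m ∈ Hc, ∀ g ∈ U, m * g * m⁻¹ ∈ U := by
    rintro m hm g ⟨hg, h1⟩
    refine ⟨mul_mem (mul_mem hm hg) (inv_mem hm), fun e he => ?_⟩
    have he' : m⁻¹ * e * m⁻¹⁻¹ ∈ E := hmemN _ (inv_mem hm.1) e he
    have hd := h1 _ he'
    have hfix : m * (g * (m⁻¹ * e * m⁻¹⁻¹) * g⁻¹ * (m⁻¹ * e * m⁻¹⁻¹)⁻¹) * m⁻¹ =
        g * (m⁻¹ * e * m⁻¹⁻¹) * g⁻¹ * (m⁻¹ * e * m⁻¹⁻¹)⁻¹ :=
      mul_inv_eq_iff_eq_mul.2 (mem_centralizer_iff.1 hm.2 _ hd).symm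
    rw [show m * g * m⁻¹ * e * (m * g * m⁻¹)⁻¹ * e⁻¹ =
      m * (g * (m⁻¹ * e * m⁻¹⁻¹) * g⁻¹ * (m⁻¹ * e * m⁻¹⁻¹)⁻¹) * m⁻¹ by group, hfix]
    exact hd
  have hAc : ∀ a ∈ A, ∀ c ∈ C, a * c = c * a := fun a ha c hc => h.commA a ha c hc.1
  have hA1 : cj 1 A ≤ Hc := by
    rw [cj_one]
    exact fun a ha => ⟨hAE ha, mem_centralizer_iff.2 fun d hd => (hAc a ha d hd.1).symm⟩
  have hA'1 : cj x A ≤ Hc := by
    rintro _ ⟨a, ha, rfl⟩
    refine ⟨Subgroup.mul_mem _ (Subgroup.mul_mem _ hx (hAE ha)) (Subgroup.inv_mem _ hx), mem_centralizer_iff.2 fun d hd => ?_⟩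
    obtain ⟨c, hc, rfl⟩ := hd.2
    show x * c * x⁻¹ * (x * a * x⁻¹) = x * a * x⁻¹ * (x * c * x⁻¹)
    rw [show x * c * x⁻¹ * (x * a * x⁻¹) = x * (c * a) * x⁻¹ by group, ← hAc a ha c hc]
    group
  -- neither conjugate lies in the stabilizer
  have hstep : ∀ g g' : G, cj g A ≤ U → cj g' A ≤ Hc → ∀ K : Subgroup G,
      cj g A ⊓ E = K → D ≤ K → cj g' A ⊓ E = K := by
    intro g g' hg hg' K hK hDK
    have hM : ∀ m ∈ cj g' A ⊔ U, ∃ a ∈ cj g' A, ∃ v ∈ U, a * v = m := by
      intro m hm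
      have hn : cj g' A ≤ normalizer (U : Set G) := fun a ha =>
        mem_normalizer_of_cj (eq_of_le_of_card_ge
          (by rintro _ ⟨y, hy, rfl⟩; exact hUn a (hg' ha) y hy) (card_cj a U).ge)
      exact exists_mul_of_mem_sup hn hm
    obtain ⟨m, hm, hme⟩ := exists_cj_eq h (M := cj g' A ⊔ U) (hg.trans le_sup_right) le_sup_left
    obtain ⟨a, ha, v, hv, rfl⟩ := hM m hm
    have hv' : cj v (cj g A) = cj g' A := by
      apply cj_injective a
      rw [cj_cj, hme, cj_eq_of_mem ha]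
    rw [← hv', ← cj_eq_of_mem_normalizer hv.1.1, ← cj_inf, hK]
    refine eq_of_le_of_card_ge ?_ (card_cj v K).ge
    rintro _ ⟨c, hc, rfl⟩
    show v * c * v⁻¹ ∈ K
    have hcE : c ∈ E := (hK.symm.le hc).2
    rw [show v * c * v⁻¹ = v * c * v⁻¹ * c⁻¹ * c by group]
    exact mul_mem (hDK (hv.2 c hcE)) hc
  have hnA : ¬ A ≤ U := fun hle => hne (by
    rw [← hA2]
    exact hstep 1 x (by rwa [cj_one]) hA'1 C (by rw [cj_one]) inf_le_left)
  have hnA' : ¬ cj x A ≤ U := fun hle => hne (by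
    have := hstep x 1 hle hA1 (cj x C) hA2 inf_le_right
    rw [cj_one] at this
    exact this.symm)
  -- an element of the conjugate in the stabilizer
  have hu16 : A ⊓ centralizer ({u} : Set G) = C := by
    refine (eq_of_le_of_card_ge (show C ≤ A ⊓ centralizer ({u} : Set G) from fun c hc => ⟨hc.1,
      mem_centralizer_singleton_iff.2 (hE.comm c hc.2 u huE)⟩) ?_).symm
    rw [h.fix_one u (hE.le huE) huA (by rw [hE.sq u huE]; exact one_mem _), hC, hE.cardInf]
  have hcm : ∀ a ∈ A, ⁅a, u⁆ ∈ C := fun a ha => by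
    refine ⟨?_, ?_⟩
    · rw [commutatorElement_def, mul_assoc a u, mul_assoc a]
      exact mul_mem ha (h.conjA u (hE.le huE) _ (inv_mem ha))
    · rw [commutatorElement_def]
      exact Subgroup.mul_mem _ (hmemN a (hAE ha) u huE) (Subgroup.inv_mem _ huE)
  obtain ⟨b, hbA, hbu, hbD⟩ : ∃ b ∈ A, ⁅b, u⁆ ≠ 1 ∧ x * ⁅b, u⁆ * x⁻¹ ∈ D := by
    let φ : A →* G :=
      { toFun := fun a => ⁅(a : G), u⁆
        map_one' := by simp
        map_mul' := fun a a' => by
          have h1 : (a : G) * ⁅(a' : G), u⁆ = ⁅(a' : G), u⁆ * a :=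
            hAc a a.2 _ (hcm a' a'.2)
          calc ⁅((a * a' : A) : G), u⁆ = a * ⁅(a' : G), u⁆ * (u * a'.1 * (a'.1)⁻¹ * u⁻¹) *
                (u * (a : G)⁻¹ * u⁻¹) := by
                  simp only [Subgroup.coe_mul, commutatorElement_def]; group
            _ = ⁅(a' : G), u⁆ * ⁅(a : G), u⁆ := by
                  rw [h1, commutatorElement_def (a : G)]; group
            _ = _ := h.commA _ (hcm a' a'.2).1 _ (hcm a a.2).1 }
    have hker : Nat.card φ.ker = 16 := by
      rw [← hE.cardInf, ← hC, ← hu16]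
      refine Nat.card_congr ⟨fun a => ⟨a.1.1, a.1.2, ?_⟩, fun a => ⟨⟨a.1, a.2.1⟩, ?_⟩,
        fun a => rfl, fun a => rfl⟩
      · exact mem_centralizer_singleton_iff.2 (commutatorElement_eq_one_iff_mul_comm.1 a.2)
      · exact commutatorElement_eq_one_iff_mul_comm.2 (mem_centralizer_singleton_iff.1 a.2.2)
    have hran : Nat.card φ.range = 4 := by
      have := φ.ker.card_mul_index
      rw [Subgroup.index_ker, hker, h.cardA] at this
      omega
    set D2 := cj x⁻¹ D with hD2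
    have hD2C : D2 ≤ C := (cj_mono inf_le_right).trans (cj_inv_cj x C).le
    by_contra! hh
    have hinj : Function.Injective (fun p : φ.range × D2 =>
        (⟨p.1.1 * p.2.1, C.mul_mem (by obtain ⟨a, ha⟩ := p.1.2; exact ha ▸ hcm a a.2)
          (hD2C p.2.2)⟩ : C)) := by
      rintro ⟨⟨r, a, rfl⟩, d⟩ ⟨⟨r', a', rfl⟩, d'⟩ he
      have he' : φ a * d.1 = φ a' * d'.1 := Subtype.mk.inj he
      have h1 : φ (a'⁻¹ * a) = d'.1 * d.1⁻¹ := by
        rw [map_mul, map_inv, eq_mul_inv_iff_mul_eq, mul_assoc, he', inv_mul_cancel_left]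
      have h2 : φ (a'⁻¹ * a) = 1 := by
        by_contra hn
        refine hh (a'⁻¹ * a : A) (a'⁻¹ * a : A).2 hn ?_
        have h3 : φ (a'⁻¹ * a) ∈ D2 := h1 ▸ mul_mem d'.2 (inv_mem d.2)
        rw [hD2, mem_cj, inv_inv] at h3
        exact h3
      have h4 : φ a = φ a' := by
        rw [← mul_inv_cancel_left a' a, map_mul, h2, mul_one]
      refine Prod.ext (Subtype.ext h4) (Subtype.ext ?_)
      rw [h4] at he'
      exact mul_left_cancel he'
    have := Nat.card_le_card_of_injective _ hinj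
    rw [Nat.card_prod, hran, hD2, card_cj, hDcard, hC, hE.cardInf] at this
    omega
  set b' := x * b * x⁻¹ with hb'
  have hb'U : b' ∈ U := by
    refine ⟨hA'1 ⟨b, hbA, rfl⟩, fun e he => ?_⟩
    have he' : x⁻¹ * e * x⁻¹⁻¹ ∈ E := hmemN _ (inv_mem hx) e he
    rcases hidx C hCE hE.cardInf u huE (fun h' => huA h'.1) _ he' with hc | hc
    · rw [hb', show x * b * x⁻¹ * e * (x * b * x⁻¹)⁻¹ * e⁻¹ =
        x * (b * (x⁻¹ * e * x⁻¹⁻¹) * b⁻¹) * x⁻¹ * e⁻¹ by group, hAc b hbA _ hc]
      convert one_mem D using 1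
      group
    · obtain ⟨c, hc', hce⟩ : ∃ c ∈ C, x⁻¹ * e * x⁻¹⁻¹ = u * c :=
        ⟨_, hc, (mul_inv_cancel_left _ _).symm⟩
      rw [hb', show x * b * x⁻¹ * e * (x * b * x⁻¹)⁻¹ * e⁻¹ =
        x * (b * (x⁻¹ * e * x⁻¹⁻¹) * b⁻¹ * (x⁻¹ * e * x⁻¹⁻¹)⁻¹) * x⁻¹ by group, hce,
        show b * (u * c) * b⁻¹ * (u * c)⁻¹ = b * u * (c * b⁻¹) * (u * c)⁻¹ by group,
        (hAc b⁻¹ (inv_mem hbA) c hc').symm,
        show b * u * (b⁻¹ * c) * (u * c)⁻¹ = ⁅b, u⁆ by rw [commutatorElement_def]; group]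
      exact hbD
  obtain ⟨c₀, hc₀, hbc₀⟩ : ∃ c ∈ C, b' * c ≠ c * b' := by
    by_contra! hh
    apply hbu
    rw [commutatorElement_eq_one_iff_mul_comm]
    obtain ⟨c, hcC, hcD⟩ : ∃ c ∈ C, c ∉ cj x C := by
      by_contra! h'
      exact hne (eq_of_le_of_card_ge h' (card_cj x C).le).symm
    have hxu : x * u * x⁻¹ ∈ E := hmemN x hx u huE
    have key : ∀ w ∈ cj x C, b' * w = w * b' := by
      rintro _ ⟨w, hw, rfl⟩
      show x * b * x⁻¹ * (x * w * x⁻¹) = x * w * x⁻¹ * (x * b * x⁻¹)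
      rw [show x * b * x⁻¹ * (x * w * x⁻¹) = x * (b * w) * x⁻¹ by group, hAc b hbA w hw]
      group
    have : b' * (x * u * x⁻¹) = x * u * x⁻¹ * b' := by
      rcases hidx (cj x C) hC2E (by rw [card_cj, hC, hE.cardInf]) c (hCE hcC) hcD _ hxu with h1 | h1
      · exact key _ h1
      · rw [show x * u * x⁻¹ = c * (c⁻¹ * (x * u * x⁻¹)) by group, ← mul_assoc, hh c hcC,
          mul_assoc, key _ h1]
        simp only [mul_assoc]
    rw [hb', show x * b * x⁻¹ * (x * u * x⁻¹) = x * (b * u) * x⁻¹ by group,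
      show x * u * x⁻¹ * (x * b * x⁻¹) = x * (u * b) * x⁻¹ by group] at this
    exact mul_left_cancel (mul_right_cancel this)
  -- move it into a 2-group containing `A`
  have hAHc : A ≤ Hc := by simpa [cj_one] using hA1
  set M := A ⊔ U with hMdef
  have hMH : M ≤ Hc := sup_le hAHc hUH
  have hAU : ∀ m ∈ M, ∀ c ∈ C, m * c * m⁻¹ ∈ C := by
    have hle : M ≤ normalizer (C : Set G) := by
      refine sup_le (fun a ha => ?_) (fun v hv => ?_)
      · exact mem_normalizer_of_cj (cj_eq_of_commute fun c hc => by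
          rw [hAc a ha c hc, mul_inv_cancel_right])
      · refine mem_normalizer_of_cj (eq_of_le_of_card_ge ?_ (card_cj v C).ge)
        rintro _ ⟨c, hc, rfl⟩
        show v * c * v⁻¹ ∈ C
        rw [show v * c * v⁻¹ = v * c * v⁻¹ * c⁻¹ * c by group]
        exact mul_mem (hv.2 c (hCE hc)).1 hc
    exact fun m hm c hc => (mem_normalizer_iff.1 (hle hm) c).1 hc
  obtain ⟨R, hR⟩ := ((isPGroup_A h).of_injective (subgroupOfEquivOfLe (le_sup_left : A ≤ M)).toMonoidHom
    (subgroupOfEquivOfLe (le_sup_left : A ≤ M)).injective).exists_le_sylow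
  set P := (R : Subgroup M).map M.subtype with hPdef
  have hAP : A ≤ P := fun a ha =>
    ⟨⟨a, le_sup_left (b := U) ha⟩, hR (show (⟨a, le_sup_left (b := U) ha⟩ : M) ∈ A.subgroupOf M from ha), rfl⟩
  have hPM : P ≤ M := map_subtype_le _
  have hPp : IsPGroup 2 P := R.isPGroup'.map _
  have hodd : Odd (P.relIndex M) := by
    have h2 : P.relIndex M = (R : Subgroup M).index := by
      rw [hPdef, ← Subgroup.relIndex_top_right (H := (R : Subgroup M)),
        ← Subgroup.relIndex_map_map_of_injective (H := (R : Subgroup M)) (K := ⊤) (f := M.subtype)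
          M.subtype_injective, ← MonoidHom.range_eq_map, Subgroup.range_subtype]
    rw [h2, Nat.odd_iff]
    have := R.not_dvd_index
    omega
  have hEU : E ≤ U := fun e he => by
    refine ⟨⟨le_normalizer he, mem_centralizer_iff.2 fun d hd =>
      hE.comm d (hCE hd.1) e he⟩, fun e' he' => ?_⟩
    rw [hE.comm e he e' he', mul_inv_cancel_right, mul_inv_cancel]
    exact one_mem _
  have hEP : E ≤ P := by
    obtain ⟨m, hm, hle⟩ := exists_conj_into hPp hPM hodd (S.isPGroup'.to_le hE.le)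
      (hEU.trans le_sup_right)
    rwa [cj_eq_of_mem_normalizer (hMH hm).1] at hle
  obtain ⟨p, hpP, hpU, hpc⟩ : ∃ p ∈ P, p ∈ U ∧ ∃ c ∈ C, p * c ≠ c * p := by
    have hb2 : b' * b' = 1 := by
      rw [hb', show x * b * x⁻¹ * (x * b * x⁻¹) = x * (b * b) * x⁻¹ by group, h.sqA b hbA]
      group
    obtain ⟨m, hm, hle⟩ := exists_conj_into hPp hPM hodd
      (show IsPGroup 2 (zpowers b') from (isPGroup_cj (g := x) (isPGroup_A h)).to_le
        (zpowers_le.2 ⟨b, hbA, rfl⟩))
      (zpowers_le.2 (mem_sup_right hb'U))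
    refine ⟨m * b' * m⁻¹, hle (conj_mem_cj (mem_zpowers b')), hUn m (hMH hm) b' hb'U,
      m * c₀ * m⁻¹, hAU m hm c₀ hc₀, fun he => hbc₀ ?_⟩
    rw [show m * b' * m⁻¹ * (m * c₀ * m⁻¹) = m * (b' * c₀) * m⁻¹ by group,
      show m * c₀ * m⁻¹ * (m * b' * m⁻¹) = m * (c₀ * b') * m⁻¹ by group] at he
    exact mul_left_cancel (mul_right_cancel he)
  obtain ⟨k, hk, hkP⟩ := exists_normalizer_conj h hPp hAP
  have hkA : ∀ y, k * y * k⁻¹ ∈ A ↔ y ∈ A := fun y => (mem_normalizer_iff.1 hk y).symm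
  set x0 := k * u * k⁻¹ with hx0
  set y0 := k * p * k⁻¹ with hy0
  have hx0S : x0 ∈ (S : Subgroup G) := hkP (conj_mem_cj (hEP huE))
  have hy0S : y0 ∈ (S : Subgroup G) := hkP (conj_mem_cj hpP)
  have hpA : p ∉ A := fun hpA => by
    obtain ⟨c, hc, hne'⟩ := hpc
    exact hne' (hAc p hpA c hc)
  have hx0A : x0 ∉ A := fun h' => huA ((hkA u).1 h')
  have hy0A : y0 ∉ A := fun h' => hpA ((hkA p).1 h')
  have hxyA : x0⁻¹ * y0 ∉ A := by
    rw [hx0, hy0, show (k * u * k⁻¹)⁻¹ * (k * p * k⁻¹) = k * (u⁻¹ * p) * k⁻¹ by group, hkA]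
    intro hup
    obtain ⟨c, hc, hne'⟩ := hpc
    apply hne'
    have h1 := hAc _ hup c hc
    calc p * c = u * (u⁻¹ * p * c) := by group
      _ = u * c * (u⁻¹ * p) := by rw [h1]; group
      _ = c * u * (u⁻¹ * p) := by rw [hE.comm u huE c (hCE hc)]
      _ = c * p := by group
  have hDle : cj k D ≤ A ⊓ centralizer ({x0, y0} : Set G) := by
    rintro _ ⟨d, hd, rfl⟩
    refine ⟨(hkA d).2 hd.1.1, mem_centralizer_pair.2 ⟨?_, ?_⟩⟩
    · show k * d * k⁻¹ * (k * u * k⁻¹) = k * u * k⁻¹ * (k * d * k⁻¹)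
      rw [show k * d * k⁻¹ * (k * u * k⁻¹) = k * (d * u) * k⁻¹ by group,
        hE.comm d (hCE hd.1) u huE]
      group
    · show k * d * k⁻¹ * (k * p * k⁻¹) = k * p * k⁻¹ * (k * d * k⁻¹)
      rw [show k * d * k⁻¹ * (k * p * k⁻¹) = k * (d * p) * k⁻¹ by group,
        mem_centralizer_iff.1 hpU.1.2 d hd]
      group
  have h8 := h.fix_le x0 hx0S y0 hy0S hx0A hy0A hxyA
  have heq : cj k D = A ⊓ centralizer ({x0, y0} : Set G) :=
    eq_of_le_of_card_ge hDle (by rw [card_cj, hDcard]; exact h8)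
  have h88 : Nat.card (A ⊓ centralizer ({x0, y0} : Set G) : Subgroup G) = 8 := by
    rw [← heq, card_cj, hDcard]
  apply hnA
  intro a ha
  refine ⟨hAHc ha, fun e he => ?_⟩
  rcases hidx C hCE hE.cardInf u huE (fun h' => huA h'.1) e he with hc | hc
  · rw [hAc a ha e hc, mul_inv_cancel_right, mul_inv_cancel]
    exact one_mem _
  · have h1 := h.fix_comm x0 hx0S y0 hy0S hx0A hy0A hxyA h88 (k * a * k⁻¹) ((hkA a).2 ha)
    have h2 : ⁅k * a * k⁻¹, x0⁆ = k * ⁅a, u⁆ * k⁻¹ := by
      rw [hx0, commutatorElement_def, commutatorElement_def]; group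
    have h3 : ⁅a, u⁆ ∈ D := by
      have h4 : k * ⁅a, u⁆ * k⁻¹ ∈ cj k D := by
        rw [heq]
        exact ⟨(hkA _).2 (hcm a ha).1, h2 ▸ h1⟩
      obtain ⟨d, hd, hde⟩ := h4
      exact (mul_left_cancel (mul_right_cancel (hde : k * d * k⁻¹ = k * ⁅a, u⁆ * k⁻¹))) ▸ hd
    obtain ⟨c, hc', rfl⟩ : ∃ c ∈ C, e = u * c := ⟨_, hc, (mul_inv_cancel_left _ _).symm⟩
    rwa [show a * (u * c) * a⁻¹ * (u * c)⁻¹ = a * u * (c * a⁻¹) * (u * c)⁻¹ by group,
      (hAc a⁻¹ (inv_mem ha) c hc').symm,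
      show a * u * (a⁻¹ * c) * (u * c)⁻¹ = ⁅a, u⁆ by rw [commutatorElement_def]; group]

/-- `A` is strongly closed. -/
theorem closed (h : Loc (S : Subgroup G) A) : AltEightThree.Closed A := by
  -- it suffices to look inside `S`
  suffices key : ∀ x ∈ A, ∀ g : G, g * x * g⁻¹ ∈ (S : Subgroup G) → g * x * g⁻¹ ∈ A by
    intro P hP hAP x hx g hg
    obtain ⟨k, hk, hkP⟩ := exists_normalizer_conj h hP hAP
    have h1 := key x hx (k * g) (by
      rw [show k * g * x * (k * g)⁻¹ = k * (g * x * g⁻¹) * k⁻¹ by group]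
      exact hkP (conj_mem_cj hg))
    rw [show k * g * x * (k * g)⁻¹ = k * (g * x * g⁻¹) * k⁻¹ by group] at h1
    exact (mem_normalizer_iff.1 hk _).2 h1
  intro a₀ ha₀ g₀ hu
  by_contra huA
  set u := g₀ * a₀ * g₀⁻¹ with hu'
  have huu : u * u = 1 := by
    rw [hu', show g₀ * a₀ * g₀⁻¹ * (g₀ * a₀ * g₀⁻¹) = g₀ * (a₀ * a₀) * g₀⁻¹ by group, h.sqA a₀ ha₀]
    group
  set C := A ⊓ centralizer ({u} : Set G) with hC
  have hCc : Nat.card C = 16 := h.fix_one u hu huA (by rw [huu]; exact one_mem _)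
  have huN : u ∈ normalizer (C : Set G) := mem_normalizer_of_cj (cj_eq_of_commute fun c hc => by
    rw [← mem_centralizer_singleton_iff.1 hc.2, mul_inv_cancel_right])
  set E := C ⊔ zpowers u with hE
  have hmem : ∀ e, e ∈ E ↔ e ∈ C ∨ u * e ∈ C := by
    intro e
    constructor
    · intro he
      obtain ⟨y, hy, c, hc, rfl⟩ := exists_mul_of_mem_sup (zpowers_le.2 huN)
        (show e ∈ zpowers u ⊔ C from sup_comm C (zpowers u) ▸ he)
      obtain ⟨i, rfl⟩ := hy
      rcases Int.even_or_odd' i with ⟨j, rfl | rfl⟩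
      · left
        simpa [zpow_mul, show u ^ (2 : ℤ) = 1 by rw [zpow_two, huu]] using hc
      · right
        show u * (u ^ (2 * j + 1) * c) ∈ C
        rw [zpow_add, zpow_mul, show u ^ (2 : ℤ) = 1 by rw [zpow_two, huu], one_zpow, one_mul,
          zpow_one, ← mul_assoc, huu, one_mul]
        exact hc
    · rintro (he | he)
      · exact mem_sup_left he
      · rw [show e = u⁻¹ * (u * e) by group]
        exact mul_mem (inv_mem (mem_sup_right (mem_zpowers u))) (mem_sup_left he)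
  have hui : u⁻¹ = u := inv_eq_of_mul_eq_one_right huu
  have hcu : ∀ c ∈ C, u * c = c * u := fun c hc => (mem_centralizer_singleton_iff.1 hc.2).symm
  have hEC : ∀ e ∈ E, ∀ c ∈ C, e * c = c * e := by
    intro e he c hc
    rcases (hmem e).1 he with he | he
    · exact h.commA e he.1 c hc.1
    · rw [show e = u⁻¹ * (u * e) by group, hui, mul_assoc, h.commA _ he.1 c hc.1, ← mul_assoc,
        hcu c hc, mul_assoc]
  have hpiece : Piece S A E := by
    refine ⟨sup_le (inf_le_left.trans h.le) (zpowers_le.2 hu), ?_, ?_, ?_, ?_⟩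
    · classical
      refine (Nat.card_congr (Equiv.ofBijective (fun p : Bool × C =>
        (⟨if p.1 then u * p.2 else p.2, by
          split
          · exact mul_mem (mem_sup_right (mem_zpowers u)) (mem_sup_left p.2.2)
          · exact mem_sup_left p.2.2⟩ : E)) ⟨?_, ?_⟩)).symm.trans ?_
      · rintro ⟨i, c⟩ ⟨j, d⟩ he
        have he' := Subtype.mk.inj he
        cases i <;> cases j <;> simp only [Bool.false_eq_true, if_false, if_true] at he'
        · rw [Subtype.ext he']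
        · exact absurd (show u ∈ A by
            rw [show u = (c : G) * (d : G)⁻¹ by rw [he']; group]
            exact mul_mem c.2.1 (inv_mem d.2.1)) huA
        · exact absurd (show u ∈ A by
            rw [show u = (d : G) * (c : G)⁻¹ by rw [← he']; group]
            exact mul_mem d.2.1 (inv_mem c.2.1)) huA
        · rw [Subtype.ext (mul_left_cancel he')]
      · rintro ⟨e, he⟩
        rcases (hmem e).1 he with he | he
        · exact ⟨(false, ⟨e, he⟩), rfl⟩
        · exact ⟨(true, ⟨u * e, he⟩), Subtype.ext (by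
            show u * (u * e) = e
            rw [← mul_assoc, huu, one_mul])⟩
      · rw [Nat.card_prod, hCc, Nat.card_eq_fintype_card (α := Bool), Fintype.card_bool]
    · rw [show A ⊓ E = C from le_antisymm (fun e he => ?_) (fun c hc => ⟨hc.1, mem_sup_left hc⟩), hCc]
      rcases (hmem e).1 he.2 with h1 | h1
      · exact h1
      · exact absurd (show u ∈ A by
          rw [show u = u * e * e⁻¹ by group]; exact mul_mem h1.1 (inv_mem he.1)) huA
    · intro e he f hf
      rcases (hmem f).1 hf with hf | hf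
      · exact hEC e he f hf
      · rw [show f = u⁻¹ * (u * f) by group, hui, ← mul_assoc]
        have : e * u = u * e := by
          rcases (hmem e).1 he with he' | he'
          · exact (hcu e he').symm
          · rw [show e = u⁻¹ * (u * e) by group, hui, mul_assoc, ← hcu _ he', ← mul_assoc]
        rw [this, mul_assoc, hEC e he _ hf, ← mul_assoc]
    · intro e he
      rcases (hmem e).1 he with he' | he'
      · exact h.sqA e he'.1
      · rw [show e = u⁻¹ * (u * e) by group, hui]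
        calc u * (u * e) * (u * (u * e)) = u * (u * e * u) * (u * e) := by group
          _ = u * (u * (u * e)) * (u * e) := by rw [← hcu _ he']
          _ = u * u * (u * e * (u * e)) := by group
          _ = 1 := by rw [huu, h.sqA _ he'.1, one_mul]
  -- move `u` back into `A`, with a conjugate inside `S`
  set Ca := centralizer ({a₀} : Set G) with hCa
  have hACa : A ≤ Ca := fun b hb => mem_centralizer_singleton_iff.2 (h.commA b hb a₀ ha₀)
  have huE : u ∈ E := mem_sup_right (mem_zpowers u)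
  have hECa : cj g₀⁻¹ E ≤ Ca := by
    rintro _ ⟨e, he, rfl⟩
    refine mem_centralizer_singleton_iff.2 ?_
    show g₀⁻¹ * e * g₀⁻¹⁻¹ * a₀ = a₀ * (g₀⁻¹ * e * g₀⁻¹⁻¹)
    have := hpiece.comm e he u huE
    rw [hu'] at this
    calc g₀⁻¹ * e * g₀⁻¹⁻¹ * a₀ = g₀⁻¹ * (e * (g₀ * a₀ * g₀⁻¹)) * g₀ := by group
      _ = g₀⁻¹ * (g₀ * a₀ * g₀⁻¹ * e) * g₀ := by rw [this]
      _ = a₀ * (g₀⁻¹ * e * g₀⁻¹⁻¹) := by group
  obtain ⟨R, hR⟩ := ((isPGroup_A h).of_injective (subgroupOfEquivOfLe hACa).toMonoidHom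
    (subgroupOfEquivOfLe hACa).injective).exists_le_sylow
  set P := (R : Subgroup Ca).map Ca.subtype with hPdef
  have hAP : A ≤ P := fun a ha =>
    ⟨⟨a, hACa ha⟩, hR (show (⟨a, hACa ha⟩ : Ca) ∈ A.subgroupOf Ca from ha), rfl⟩
  have hodd : Odd (P.relIndex Ca) := by
    have h2 : P.relIndex Ca = (R : Subgroup Ca).index := by
      rw [hPdef, ← Subgroup.relIndex_top_right (H := (R : Subgroup Ca)),
        ← Subgroup.relIndex_map_map_of_injective (H := (R : Subgroup Ca)) (K := ⊤) (f := Ca.subtype)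
          Ca.subtype_injective, ← MonoidHom.range_eq_map, Subgroup.range_subtype]
    rw [h2, Nat.odd_iff]
    have := R.not_dvd_index
    omega
  obtain ⟨m, hm, hmle⟩ := exists_conj_into (R.isPGroup'.map _) (map_subtype_le _) hodd
    (isPGroup_cj (g := g₀⁻¹) (S.isPGroup'.to_le hpiece.le)) hECa
  obtain ⟨k, hk, hkP⟩ := exists_normalizer_conj h (R.isPGroup'.map Ca.subtype) hAP
  set t := k * (m * g₀⁻¹) with ht
  have htu : t * u * t⁻¹ ∈ A := by
    have h1 : m * a₀ * m⁻¹ = a₀ := by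
      rw [mem_centralizer_singleton_iff.1 hm, mul_inv_cancel_right]
    rw [show t * u * t⁻¹ = k * (m * a₀ * m⁻¹) * k⁻¹ by rw [ht, hu']; group, h1]
    exact (mem_normalizer_iff.1 hk a₀).1 ha₀
  set F := cj t E with hF
  have hFS : F ≤ (S : Subgroup G) := by
    rw [hF, ht, ← cj_cj k, ← cj_cj m]
    exact (cj_mono hmle).trans hkP
  have hFc : ∀ a ∈ F, ∀ b ∈ F, a * b = b * a := by
    rintro _ ⟨a, ha, rfl⟩ _ ⟨b, hb, rfl⟩
    rw [← map_mul, ← map_mul, hpiece.comm a ha b hb]
  have hFsq : ∀ a ∈ F, a * a = 1 := by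
    rintro _ ⟨a, ha, rfl⟩
    rw [← map_mul, hpiece.sq a ha, map_one]
  have hFcard : Nat.card F = 32 := by rw [hF, card_cj, hpiece.card]
  have hAF := le_normalizer_of_card h hFS hFcard hFc hFsq
  have hA'F : cj t A ≤ normalizer (F : Set G) := by
    rintro _ ⟨a, ha, rfl⟩
    have := le_normalizer_of_card h hpiece.le hpiece.card hpiece.comm hpiece.sq ha
    refine mem_normalizer_of_cj ?_
    show cj (t * a * t⁻¹) (cj t E) = cj t E
    rw [cj_cj, inv_mul_cancel_right, ← cj_cj, cj_eq_of_mem_normalizer this]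
  obtain ⟨x, hx, hxe⟩ := exists_cj_eq h (M := normalizer (F : Set G))
    (g := 1) (g' := t) (by rwa [cj_one]) hA'F
  rw [cj_one] at hxe
  have hinf : cj x (A ⊓ F) = cj t (A ⊓ E) := by
    rw [cj_inf, cj_inf, hxe, cj_eq_of_mem_normalizer hx]
  have hp' : Piece S A F := ⟨hFS, hFcard, by
    rw [← card_cj x (A ⊓ F), hinf, card_cj, hpiece.cardInf], hFc, hFsq⟩
  rw [hp'.inf_invariant h hx] at hinf
  have h1 : t * u * t⁻¹ ∈ cj t (A ⊓ E) :=
    hinf ▸ ⟨htu, conj_mem_cj huE⟩
  obtain ⟨w, hw, hwe⟩ := h1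
  exact huA ((mul_left_cancel (mul_right_cancel (hwe : t * w * t⁻¹ = t * u * t⁻¹))) ▸ hw.1)

end CfsgLib.M24Fusion
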