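import Cfsg.Agent.Lib.M24Fusion.Transport
import Cfsg.Prelude.Def_Transfer

/-!
Sylow 2-subgroups of type `M₂₄` with central centre: the extraspecial subgroup is normal.
-/

set_option autoImplicit false
set_option linter.style.haveILetI false

namespace CfsgLib.M24Fusion

open Subgroup Cfsg
open scoped commutatorElement

theorem extraspecial_normal {H : Type*} [Group H] [Finite H]
    (hO : Cfsg.oddCore H = ⊥) (T : Sylow 2 H) (P : Sylow 2 ↥Cfsg.M24)
    (hT : Nonempty (↥(T : Subgroup H) ≃* ↥(P : Subgroup ↥Cfsg.M24)))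
    (hZ : ∀ z ∈ (T : Subgroup H), (∀ t ∈ (T : Subgroup H), z * t = t * z) → z ∈ Subgroup.center H)
    (E : Subgroup H) (hE : E ≤ (T : Subgroup H)) (hEn : (E.subgroupOf (T : Subgroup H)).Normal)
    (hEx : Cfsg.IsExtraspecial 2 ↥E) (hE7 : Nat.card ↥E = 2 ^ 7) : E.Normal := by
  haveI : Fact (Nat.Prime 2) := ⟨Nat.prime_two⟩
  obtain ⟨φ⟩ := hT
  obtain ⟨hPcard, A₀, hA₀⟩ := exists_loc_sylow P
  have hTcard : Nat.card (T : Subgroup H) = 1024 := by
    rw [Nat.card_congr φ.toEquiv, hPcard]; rfl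
  have hq : Nat.card (↥(P : Subgroup ↥Cfsg.M24) ⧸ center ↥(P : Subgroup ↥Cfsg.M24)) = 512 := by
    rw [← hA₀.cardS, Subgroup.card_top]
  -- the centre of the Sylow subgroup
  set Z : Subgroup H := (center (T : Subgroup H)).map (T : Subgroup H).subtype with hZdef
  have hZcen : Z ≤ center H := by
    rintro _ ⟨z, hz, rfl⟩
    exact hZ z z.2 fun t ht => (congrArg Subtype.val (mem_center_iff.1 hz ⟨t, ht⟩)).symm
  haveI hZn : Z.Normal := ⟨fun z hz g => by
    rwa [mem_center_iff.1 (hZcen hz) g, mul_inv_cancel_right]⟩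
  have hcongr : (center (T : Subgroup H)).map φ.toMonoidHom = center ↥(P : Subgroup ↥Cfsg.M24) := by
    ext x
    constructor
    · rintro ⟨y, hy, rfl⟩
      rw [mem_center_iff]
      intro g
      obtain ⟨g', rfl⟩ := φ.surjective g
      show φ g' * φ y = φ y * φ g'
      rw [← map_mul, ← map_mul, mem_center_iff.1 hy g']
    · intro hx
      refine ⟨φ.symm x, mem_center_iff.2 fun g => φ.injective ?_, φ.apply_symm_apply x⟩
      rw [map_mul, map_mul, MulEquiv.apply_symm_apply, mem_center_iff.1 hx (φ g)]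
  have hZ2 : Nat.card Z = 2 := by
    rw [hZdef, card_map_of_injective (T : Subgroup H).subtype_injective]
    have h1 := (center ↥(P : Subgroup ↥Cfsg.M24)).card_eq_card_quotient_mul_card_subgroup
    rw [hPcard, hq] at h1
    have h2 : Nat.card (center (T : Subgroup H)) = Nat.card (center ↥(P : Subgroup ↥Cfsg.M24)) := by
      rw [← hcongr, card_map_of_injective φ.injective]
    omega
  set π := QuotientGroup.mk' Z
  have hπ := QuotientGroup.mk'_surjective Z
  set S := T.mapSurjective hπ with hSdef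
  have hScoe : (S : Subgroup (H ⧸ Z)) = (T : Subgroup H).map π := Sylow.coe_mapSurjective ..
  -- its type
  let ψ : (T : Subgroup H) →* (S : Subgroup (H ⧸ Z)) :=
    (π.comp (T : Subgroup H).subtype).codRestrict _ fun t => by rw [hScoe]; exact ⟨t, t.2, rfl⟩
  have hψker : ψ.ker = center (T : Subgroup H) := by
    ext t
    rw [MonoidHom.mem_ker, Subtype.ext_iff]
    show (QuotientGroup.mk' Z (t : H) = 1) ↔ _
    rw [QuotientGroup.mk'_apply, QuotientGroup.eq_one_iff, hZdef]
    exact ⟨fun ⟨u, hu, he⟩ => Subtype.ext he ▸ hu, fun h => ⟨t, h, rfl⟩⟩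
  have hψs : Function.Surjective ψ := by
    rintro ⟨y, hy⟩
    rw [hScoe] at hy
    obtain ⟨t, ht, rfl⟩ := hy
    exact ⟨⟨t, ht⟩, rfl⟩
  let e : (S : Subgroup (H ⧸ Z)) ≃* (↥(P : Subgroup ↥Cfsg.M24) ⧸ center ↥(P : Subgroup ↥Cfsg.M24)) :=
    ((QuotientGroup.quotientKerEquivOfSurjective ψ hψs).symm.trans
      (QuotientGroup.quotientMulEquivOfEq hψker)).trans (QuotientGroup.congr _ _ φ hcongr)
  obtain ⟨A, hA⟩ := exists_loc_of_equiv (S : Subgroup (H ⧸ Z)) P e
  -- the core of the quotient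
  have hO' : Cfsg.oddCore (H ⧸ Z) = ⊥ := by
    set K : Subgroup H := (Cfsg.oddCore (H ⧸ Z)).comap π with hK
    haveI : K.Normal := (inferInstance : (Cfsg.oddCore (H ⧸ Z)).Normal).comap π
    have hZK : Z ≤ K := fun y hy => by
      rw [hK, Subgroup.mem_comap, show π y = 1 from (QuotientGroup.eq_one_iff y).2 hy]
      exact one_mem _
    have hodd : Odd (Z.relIndex K) := by
      have h1 := Subgroup.relIndex_ker K π
      rw [QuotientGroup.ker_mk'] at h1
      rw [h1, hK, Subgroup.map_comap_eq_self_of_surjective hπ]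
      exact Nat.coprime_two_right.mp CfsgLib.PCore.pPrimeCore_coprime
    set Z' := Z.subgroupOf K with hZ'
    have hZ'2 : Nat.card Z' = 2 := by rw [hZ', Nat.card_congr (subgroupOfEquivOfLe hZK).toEquiv, hZ2]
    obtain ⟨C, hC⟩ := Subgroup.exists_right_complement'_of_coprime (N := Z')
      (by rw [hZ'2]; exact Nat.coprime_two_left.2 hodd)
    have hCn : C.Normal := by
      refine ⟨fun c hc g => ?_⟩
      obtain ⟨z, hz, c', hc', rfl⟩ : ∃ z ∈ Z', ∃ c' ∈ C, z * c' = g := by
        obtain ⟨⟨z, c'⟩, he, -⟩ := isComplement'_def.1 hC |>.existsUnique g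
        exact ⟨z, z.2, c', c'.2, he⟩
      have hzc : ∀ y : K, z * y = y * z := fun y =>
        Subtype.ext (mem_center_iff.1 (hZcen hz) y).symm
      rw [show z * c' * c * (z * c')⁻¹ = z * (c' * c * c'⁻¹) * z⁻¹ by group,
        hzc (c' * c * c'⁻¹), mul_inv_cancel_right]
      exact mul_mem (mul_mem hc' hc) (inv_mem hc')
    have hCodd : Odd (Nat.card C) := by
      rw [← hC.symm.index_eq_card]
      exact hodd
    have hCbot : C = ⊥ := by
      have hcore : AltEightThree.core K ≤ Cfsg.oddCore H := by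
        refine CfsgLib.PCore.le_pPrimeCore ⟨fun x hx g => ?_⟩
          (Nat.coprime_two_right.mpr (AltEightThree.odd_core K))
        refine AltEightThree.conj_core_mem g (fun y => ⟨fun hy => ?_, fun hy => ?_⟩) hx
        · exact (inferInstance : K.Normal).conj_mem y hy g
        · simpa [mul_assoc] using (inferInstance : K.Normal).conj_mem _ hy g⁻¹
      rw [eq_bot_iff]
      intro c hc
      have h1 : (c : H) ∈ Cfsg.oddCore H := hcore
        ⟨c, CfsgLib.PCore.le_pPrimeCore hCn (Nat.coprime_two_right.mpr hCodd) hc, rfl⟩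
      rw [hO, mem_bot] at h1
      exact Subtype.ext h1
    have hKZ : K ≤ Z := fun k hk => by
      have htop : Z' = ⊤ := by
        have := hC.sup_eq_top
        rwa [hCbot, sup_bot_eq] at this
      have h1 : (⟨k, hk⟩ : K) ∈ Z' := htop ▸ mem_top _
      exact h1
    rw [← map_comap_eq_self_of_surjective hπ (Cfsg.oddCore (H ⧸ Z)), eq_bot_iff]
    rintro _ ⟨k, hk, rfl⟩
    exact mem_bot.2 ((QuotientGroup.eq_one_iff k).2 (hKZ hk))
  haveI hAn : A.Normal := normal hA hO'
  -- the centre of E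
  set ZE : Subgroup H := (center E).map E.subtype with hZEdef
  have hZE2 : Nat.card ZE = 2 := by
    rw [hZEdef, card_map_of_injective E.subtype_injective]; exact hEx.2
  have hZEZ : ZE = Z := by
    refine eq_of_le_of_card_ge ?_ (by rw [hZE2, hZ2])
    rintro _ ⟨z, hz, rfl⟩
    refine ⟨⟨z, hE z.2⟩, mem_center_iff.2 fun t => ?_, rfl⟩
    by_cases hz1 : z = 1
    · subst hz1
      exact Subtype.ext (by simp)
    have hmem : (t : H) * z * (t : H)⁻¹ ∈ E := hEn.conj_mem ⟨z, hE z.2⟩ z.2 t
    have hc : (⟨_, hmem⟩ : E) ∈ center E := by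
      rw [mem_center_iff]
      intro f
      have hf : (t : H)⁻¹ * f * t ∈ E := by
        simpa [mem_subgroupOf] using hEn.conj_mem ⟨f, hE f.2⟩ f.2 t⁻¹
      have h1 : (t : H)⁻¹ * f * t * z = z * ((t : H)⁻¹ * f * t) :=
        congrArg Subtype.val (mem_center_iff.1 hz ⟨_, hf⟩)
      apply Subtype.ext
      show (f : H) * ((t : H) * z * (t : H)⁻¹) = (t : H) * z * (t : H)⁻¹ * f
      calc (f : H) * ((t : H) * z * (t : H)⁻¹) = t * ((t : H)⁻¹ * f * t * z) * (t : H)⁻¹ := by group
        _ = t * (z * ((t : H)⁻¹ * f * t)) * (t : H)⁻¹ := by rw [h1]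
        _ = (t : H) * z * (t : H)⁻¹ * f := by group
    obtain ⟨a, b, hab, huniv⟩ := Nat.card_eq_two_iff.1 hEx.2
    have hall : ∀ w : center E, w = 1 ∨ w = ⟨z, hz⟩ := by
      intro w
      have hne : (1 : center E) ≠ ⟨z, hz⟩ := fun e' => hz1 (congrArg Subtype.val e').symm
      have hm : ∀ v : center E, v = a ∨ v = b := fun v => by
        have h : v ∈ ({a, b} : Set (center E)) := huniv ▸ Set.mem_univ v
        simpa using h
      rcases hm w with rfl | rfl <;> rcases hm 1 with h1 | h1 <;> rcases hm ⟨z, hz⟩ with h2 | h2 <;>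
        first
          | exact Or.inl h1.symm
          | exact Or.inr h2.symm
          | exact absurd (h1.trans h2.symm) hne
    rcases hall ⟨_, hc⟩ with e' | e'
    · have h2 : (t : H) * z * (t : H)⁻¹ = 1 := congrArg (fun w : center E => ((w : E) : H)) e'
      exact absurd (Subtype.ext (conj_eq_one_iff.1 h2)) hz1
    · apply Subtype.ext
      show (t : H) * (z : H) = (z : H) * t
      exact mul_inv_eq_iff_eq_mul.1 (congrArg (fun w : center E => ((w : E) : H)) e')
  have hZE : Z ≤ E := hZEZ ▸ map_subtype_le _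
  have hEcard : Nat.card (E.map π) = 64 := by
    have h1 := (Z.subgroupOf E).card_mul_index
    rw [Nat.card_congr (subgroupOfEquivOfLe hZE).toEquiv, hZ2, hE7] at h1
    have h2 := Subgroup.relIndex_ker E π
    rw [QuotientGroup.ker_mk'] at h2
    rw [← h2]
    show (Z.subgroupOf E).index = 64
    omega
  have hEeq : E.map π = A := by
    refine hA.unique _ ((map_mono hE).trans hScoe.ge) ?_ hEcard
    rintro _ ⟨a, ha, rfl⟩ _ ⟨b, hb, rfl⟩
    rw [← commutatorElement_eq_one_iff_mul_comm, ← map_commutatorElement, QuotientGroup.mk'_apply,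
      QuotientGroup.eq_one_iff]
    rw [← hZEZ, hZEdef]
    have h1 : ⁅(⟨a, ha⟩ : E), ⟨b, hb⟩⁆ ∈ center E :=
      hEx.1.2.2 ▸ commutator_mem_commutator (mem_top _) (mem_top _)
    exact ⟨_, h1, rfl⟩
  have hcomap : E = A.comap π := by
    rw [← hEeq, comap_map_eq, QuotientGroup.ker_mk', sup_eq_left.2 hZE]
  rw [hcomap]
  exact hAn.comap π

end CfsgLib.M24Fusion
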