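import Cfsg.Agent.Lib.M24Fusion.Pieces
import Cfsg.Agent.Lib.ProductFusion.Main
import Cfsg.Agent.Lib.Fusion.GroupNormalSub

/-!
With trivial core, the abelian subgroup of order 64 is normal.
-/

set_option autoImplicit false
set_option linter.style.haveILetI false

namespace CfsgLib.M24Fusion

open Subgroup CfsgLib.TwoGroups.FT
open scoped commutatorElement

universe u

variable {G : Type u} [Group G] [Finite G] {S : Sylow 2 G} {A V W : Subgroup G}

theorem stronglyClosed (h : Loc (S : Subgroup G) A) (hV : V ≤ A)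
    (hn : ∀ n ∈ normalizer (A : Set G), ∀ v ∈ V, n * v * n⁻¹ ∈ V) :
    Cfsg.IsStronglyClosed V (S : Subgroup G) := by
  refine ⟨hV.trans h.le, fun v hv g hg => ?_⟩
  have hcl := closed h
  have hA := hcl S S.isPGroup' h.le v (hV hv) g hg
  obtain ⟨n, -, hn', he⟩ := hcl.control (isPGroup_A h) h.commA (K := ⊤) le_top (mem_top g) (hV hv) hA
  exact he ▸ hn n hn' v hv

theorem normalClosure_le (h : Loc (S : Subgroup G) A) (hO : Cfsg.oddCore G = ⊥)
    (P : Pair' S A V W) (hV : Cfsg.IsStronglyClosed V (S : Subgroup G))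
    (hcomm : ∀ x ∈ normalClosure (V : Set G), ∀ w ∈ W, x * w = w * x) :
    normalClosure (V : Set G) ≤ A := by
  haveI : Fact (Nat.Prime 2) := ⟨Nat.prime_two⟩
  set K := normalClosure (V : Set G) with hK
  have hVK : V ≤ K := fun v hv => subset_normalClosure hv
  set B := (S : Subgroup G) ⊓ K with hB
  have hBA : B ≤ A := fun b hb => (P.symm h).centralizer_le h hb.1 (hcomm b hb.2)
  have hSV : (S : Subgroup G) ≤ normalizer (V : Set G) := fun s hs =>
    mem_normalizer_of_cj (eq_of_le_of_card_ge
      (by rintro _ ⟨v, hv, rfl⟩; exact P.invV s hs v hv) (card_cj s V).ge)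
  -- the normalizer of the Sylow subgroup inside the closure
  set L := K ⊓ normalizer (B : Set G) with hL
  have hLV : L ≤ normalizer (V : Set G) := fun n hn => by
    refine mem_normalizer_of_cj (eq_of_le_of_card_ge ?_ (card_cj n V).ge)
    rintro _ ⟨v, hv, rfl⟩
    exact hV.2 v hv n (((mem_normalizer_iff.1 hn.2 v).1 ⟨hV.1 hv, hVK hv⟩).1)
  set O := (L.subgroupOf (normalizer (V : Set G))).map V.normalizerMonoidHom with hOdef
  obtain ⟨P₁, hP₁⟩ := CfsgLib.Fusion.exists_sylow_inf S K
  have hBL : B ≤ L := fun b hb => ⟨hb.2, le_normalizer hb⟩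
  have hodd : Odd (B.relIndex L) := by
    have h1 : B.relIndex L ∣ B.relIndex K := by
      have := relIndex_mul_relIndex B L K hBL inf_le_left
      exact ⟨_, this.symm⟩
    have h2 : ¬ 2 ∣ B.relIndex K := by
      have := P₁.not_dvd_index
      rwa [hP₁] at this
    rw [Nat.odd_iff]
    by_contra h3
    exact h2 (dvd_trans (by omega) h1)
  have hO1 : O = ⊥ := by
    refine P.odd_eq_bot h hSV O (hodd.of_dvd_nat ?_) ?_
    · rw [hOdef, ← Subgroup.relIndex_ker]
      refine (relIndex_dvd_of_le_left (H := B.subgroupOf (normalizer (V : Set G)))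
        (K := V.normalizerMonoidHom.ker) (L := L.subgroupOf (normalizer (V : Set G))) ?_).trans ?_
      · intro b hb
        rw [normalizerMonoidHom_ker, mem_subgroupOf]
        exact fun v hv => h.commA v (P.leV hv) b (hBA hb)
      · rw [relIndex_subgroupOf hLV]
    · rintro s hs _ ⟨l, hl, rfl⟩
      refine ⟨⟨s, hSV hs⟩ * l * ⟨s, hSV hs⟩⁻¹, ?_, by simp⟩
      show s * (l : G) * s⁻¹ ∈ L
      have hl' : (l : G) ∈ L := hl
      refine ⟨(normalClosure_normal : K.Normal).conj_mem _ hl'.1 s, ?_⟩
      have hsB : s ∈ normalizer (B : Set G) := mem_normalizer_of_cj (eq_of_le_of_card_ge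
        (by
          rintro _ ⟨b, hb, rfl⟩
          exact ⟨Subgroup.mul_mem _ (Subgroup.mul_mem _ hs hb.1) (Subgroup.inv_mem _ hs),
            (normalClosure_normal : K.Normal).conj_mem _ hb.2 s⟩) (card_cj s B).ge)
      exact Subgroup.mul_mem _ (Subgroup.mul_mem _ hsB hl'.2) (Subgroup.inv_mem _ hsB)
  have hcent : ∀ n ∈ L, ∀ b ∈ B, n * b = b * n := by
    intro n hn b hb
    obtain ⟨v, hv, w, hw, rfl⟩ := P.prod b (hBA hb)
    have h1 : V.normalizerMonoidHom ⟨n, hLV hn⟩ ∈ O := ⟨⟨n, hLV hn⟩, hn, rfl⟩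
    rw [hO1, mem_bot] at h1
    have h2 : n * v * n⁻¹ = v :=
      congrArg Subtype.val (MulEquiv.congr_fun h1 (⟨v, hv⟩ : V))
    rw [← mul_assoc, mul_inv_eq_iff_eq_mul.1 h2, mul_assoc, hcomm n hn.1 w hw, mul_assoc]
  -- Burnside
  have hP : normalizer ((P₁ : Subgroup K) : Set K) ≤ centralizer ((P₁ : Subgroup K) : Set K) := by
    intro n hn
    have hnL : (n : G) ∈ L := by
      refine ⟨n.2, mem_normalizer_of_cj (eq_of_le_of_card_ge ?_ (card_cj (n : G) B).ge)⟩
      rintro _ ⟨b, hb, rfl⟩
      have h1 : (⟨b, hb.2⟩ : K) ∈ (P₁ : Subgroup K) := by rw [hP₁]; exact hb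
      have h2 := (mem_normalizer_iff.1 hn _).1 h1
      rw [hP₁] at h2
      exact h2
    rw [mem_centralizer_iff]
    intro b hb
    have hb' : (b : G) ∈ B := by
      have h1 : b ∈ (P₁ : Subgroup K) := hb
      rw [hP₁] at h1
      exact h1
    exact Subtype.ext (hcent n hnL b hb').symm
  have hcompl := MonoidHom.ker_transferSylow_isComplement' P₁ hP
  have hker : (MonoidHom.transferSylow P₁ hP).ker = ⊥ := by
    have hcore : AltEightThree.core K ≤ Cfsg.oddCore G := by
      refine CfsgLib.PCore.le_pPrimeCore ⟨fun x hx g => ?_⟩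
        (Nat.coprime_two_right.mpr (AltEightThree.odd_core K))
      refine AltEightThree.conj_core_mem g (fun y => ⟨fun hy => ?_, fun hy => ?_⟩) hx
      · exact (normalClosure_normal : K.Normal).conj_mem y hy g
      · simpa [mul_assoc] using (normalClosure_normal : K.Normal).conj_mem _ hy g⁻¹
    rw [eq_bot_iff]
    intro t ht
    have h1 : (t : G) ∈ AltEightThree.core K :=
      ⟨t, CfsgLib.PCore.le_pPrimeCore inferInstance (Nat.coprime_two_right.mpr (by
        rw [Nat.odd_iff]
        have := MonoidHom.not_dvd_card_ker_transferSylow P₁ hP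
        omega)) ht, rfl⟩
    have h2 := hcore h1
    rw [hO, mem_bot] at h2
    exact Subtype.ext h2
  intro x hx
  have h1 : (⟨x, hx⟩ : K) ∈ (P₁ : Subgroup K) := by
    have htop : (P₁ : Subgroup K) = ⊤ := by
      have := hcompl.sup_eq_top
      rwa [hker, bot_sup_eq] at this
    rw [htop]
    exact mem_top _
  rw [hP₁] at h1
  exact hBA h1

/-- The normality theorem. -/
theorem normal (h : Loc (S : Subgroup G) A) (hO : Cfsg.oddCore G = ⊥) : A.Normal := by
  obtain ⟨V, W, hV, hW, hd, hprod, hVne, hWne, hVn, hWn⟩ := exists_invariant_pair h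
  have hSN := sylow_le_normalizer h
  have P : Pair' S A V W := ⟨hV, hW, hd, hprod, hVne, hWne, fun s hs => hVn s (hSN hs),
    fun s hs => hWn s (hSN hs)⟩
  have hsV := stronglyClosed h hV hVn
  have hsW := stronglyClosed h hW hWn
  let D : ProductFusion.Pair G :=
    ⟨S, V, W, fun a ha b hb => h.commA a (hV ha) b (hW hb), hd, hsV, hsW⟩
  have hb : ⁅normalClosure (V : Set G), normalClosure (W : Set G)⁆ = ⊥ :=
    le_bot_iff.1 (hO ▸ ProductFusion.commutator_le_pPrimeCore D)
  have hcomm : ∀ x ∈ normalClosure (V : Set G), ∀ y ∈ normalClosure (W : Set G), x * y = y * x := by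
    intro x hx y hy
    exact commutatorElement_eq_one_iff_mul_comm.1 (by
      have := commutator_mem_commutator hx hy
      rwa [hb, mem_bot] at this)
  have h1 := normalClosure_le h hO P hsV fun x hx w hw => hcomm x hx w (subset_normalClosure hw)
  have h2 := normalClosure_le h hO (P.symm h) hsW fun x hx v hv =>
    (hcomm v (subset_normalClosure hv) x hx).symm
  have heq : normalClosure (V : Set G) ⊔ normalClosure (W : Set G) = A := by
    refine le_antisymm (sup_le h1 h2) fun a ha => ?_
    obtain ⟨v, hv, w, hw, rfl⟩ := hprod a ha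
    exact mul_mem (mem_sup_left (subset_normalClosure hv)) (mem_sup_right (subset_normalClosure hw))
  rw [← heq]
  infer_instance

end CfsgLib.M24Fusion
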