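import Cfsg.Agent.Lib.InvChar.M24SylowData

/-!
Checks on the Sylow 2-subgroup of the group of the 24-point code: squares, commutators and two
invariant complementary subgroups of the abelian subgroup of the central quotient.
-/

set_option autoImplicit false

namespace CfsgLib.M24Fusion

open CfsgLib.Golay CfsgLib.FusionMathieu CfsgLib.InvChar.M24Syl

/-- The commutator. -/
def kL (a x : List ℕ) : List ℕ := comp (comp a x) (invList (comp x a))

/-- Equality modulo the centre. -/
def eqZ (l l' : List ℕ) : Bool := l == l' || l == comp l' z

/-- The first generator. -/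
def g0 : List ℕ := gens.getD 0 idL

/-- A commutator outside the abelian subgroup. -/
def cL : List ℕ := kL g0 (gens.getD 1 idL)

/-- Generators of the preimage of an invariant subgroup of order 8. -/
def vGens : List (List ℕ) := [
  [1, 0, 6, 9, 8, 13, 2, 21, 4, 3, 18, 22, 15, 5, 20, 12, 17, 16, 10, 23, 14, 7, 11, 19],
  [4, 8, 14, 18, 0, 5, 20, 7, 1, 10, 9, 16, 12, 13, 2, 15, 11, 22, 3, 19, 6, 21, 17, 23],
  [3, 9, 11, 0, 18, 21, 22, 13, 10, 1, 8, 2, 19, 7, 16, 23, 14, 20, 4, 12, 17, 5, 6, 15], z]

/-- Generators of the preimage of an invariant complement. -/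
def wGens : List (List ℕ) := [
  [4, 8, 14, 16, 0, 13, 20, 21, 1, 17, 22, 18, 15, 5, 2, 12, 3, 9, 11, 23, 6, 7, 10, 19],
  [9, 3, 22, 1, 17, 23, 11, 12, 16, 0, 14, 6, 7, 19, 10, 21, 8, 4, 20, 13, 18, 15, 2, 5],
  [0, 6, 2, 11, 4, 7, 1, 5, 20, 9, 10, 3, 23, 21, 14, 19, 18, 17, 16, 15, 8, 13, 22, 12], z]

/-- Distinctness. -/
def nodupB : List (List ℕ) → Bool
  | [] => true
  | l :: ls => !(ls.contains l) && nodupB ls

/-- The check of the squares. -/
def okSquare : Bool :=
  nodupB aElts && tops.all fun t =>
    t == idL || !(aElts.contains (comp t t)) || Nat.ble 32 (fixZ [t]).length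

/-- The check of the pairs. -/
def okPair : Bool :=
  tops.all fun t => tops.all fun u =>
    t == idL || u == idL || t == u || Nat.ble ((fixZ [t, u]).length + 1) 16 ||
      aElts.all fun a => commZ (kL a t) t && commZ (kL a t) u

/-- The check of the commutators. -/
def okDerived : Bool :=
  !(aElts.contains cL) && Nat.ble 8 (fixZ gens).length &&
  (tops.all fun t => t == idL || aElts.contains (comp (invList cL) t) ||
    tops.any fun u => aElts.contains (comp (invList cL) (kL t u))) &&
  (fixZ gens).all (fun w => aElts.any fun a => eqZ (kL a cL) w) &&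
  (aElts.any fun a => (fixZ gens).contains (kL a g0) && !(eqZ (kL a g0) idL)) &&
  ((fixZ gens).any fun w => aElts.all fun a => !(eqZ (kL a g0) w))

/-- An invariant subgroup. -/
def okInv (ws : List (List ℕ)) : Bool :=
  chainOk ws && ws.contains z && ws.all (fun x => aElts.contains x) &&
    gens.all fun g => ws.all fun x => (elts ws).contains (comp (comp g x) (invList g))

/-- The check of the decomposition. -/
def okSplit : Bool :=
  okInv vGens && okInv wGens &&
    (elts vGens).all fun l => !((elts wGens).contains l) || eqZ l idL

set_option maxRecDepth 100000 in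
theorem okSquare_true : okSquare = true := by decide +kernel

set_option maxRecDepth 100000 in
theorem okPair_true : okPair = true := by decide +kernel

set_option maxRecDepth 100000 in
theorem okDerived_true : okDerived = true := by decide +kernel

set_option maxRecDepth 100000 in
theorem okSplit_true : okSplit = true := by decide +kernel

end CfsgLib.M24Fusion
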