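import Cfsg.Agent.Lib.InvChar.M24Sylow
import Cfsg.Agent.Lib.M24Fusion.Basic
import Cfsg.Agent.Lib.M24Fusion.ModelData

/-!
The central quotient of a Sylow 2-subgroup of the group of the 24-point code satisfies the local data.
-/

set_option autoImplicit false

namespace CfsgLib.M24Fusion

open Cfsg CfsgLib.FusionMathieu CfsgLib.InvChar.M24Syl
open CfsgLib.Golay hiding gens
open scoped commutatorElement

theorem toList_inv (σ : Equiv.Perm GolayPt) : invList (toList σ) = toList σ⁻¹ := by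
  refine List.ext_getElem (by simp [invList, idL, toList_length]) fun i h1 h2 => ?_
  have hi : i < 24 := toList_length σ⁻¹ ▸ h2
  simp only [invList, idL, List.getElem_map, List.getElem_range]
  have hnd : (toList σ).Nodup := by
    refine List.nodup_ofFn.mpr fun a b hab => ?_
    have h := σ.injective (idx_injective (Fin.ext hab))
    have h' := congrArg idx h
    rwa [idx_pt, idx_pt] at h'
  set j := (idx (σ⁻¹ (pt ⟨i, hi⟩))).val with hj
  have hjl : j < (toList σ).length := by rw [toList_length]; exact (idx _).isLt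
  have he : (toList σ)[j] = i := by
    rw [toList_getElem]
    simp only [hj, Fin.eta, pt_idx, Equiv.Perm.coe_inv, Equiv.apply_symm_apply, idx_pt]
  rw [toList_getElem σ⁻¹ i h2]
  conv_lhs => rw [← he]
  rw [hnd.idxOf_getElem]

theorem nodup_of_nodupB : ∀ {L : List (List ℕ)}, nodupB L = true → L.Nodup
  | [], _ => List.nodup_nil
  | l :: ls, h => by
    simp only [nodupB, Bool.and_eq_true, Bool.not_eq_true'] at h
    refine List.nodup_cons.mpr ⟨fun hm => ?_, nodup_of_nodupB h.2⟩
    rw [List.contains_iff_mem.mpr hm] at h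
    exact Bool.noConfusion h.1

set_option maxHeartbeats 1000000 in
set_option maxRecDepth 4000 in
theorem exists_loc : ∃ (P : Subgroup M24), Nat.card P = 2 ^ 10 ∧
    ∃ A : Subgroup (P ⧸ Subgroup.center P), Loc ⊤ A := by
  classical
  have hok := ok_true
  simp only [ok, Bool.and_eq_true, List.all_eq_true, List.contains_iff_mem, beq_iff_eq,
    Bool.not_eq_true', beq_eq_false_iff_ne, List.any_eq_true, Bool.or_eq_true,
    Nat.ble_eq] at hok
  obtain ⟨⟨⟨hch, hchA⟩, hin⟩, ⟨⟨⟨⟨⟨⟨⟨⟨⟨hzE, hcen⟩, hzc⟩, hzne⟩, hzA⟩, hab⟩, hnorm⟩, hone⟩, htwo⟩,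
    hall⟩⟩ := hok
  obtain ⟨P₀, hP₀, hP₀card, hP₀cl⟩ := exists_chain gens hch
  obtain ⟨A₀, hA₀, hA₀card, hA₀cl⟩ := exists_chain (gens.drop 3) hchA
  have hP₀le : P₀ ≤ M24 := by
    rw [hP₀cl, Subgroup.closure_le]
    intro σ hσ
    exact (mem_M24_iff' σ).mpr (hin _ hσ)
  have hA₀le : A₀ ≤ P₀ := by
    rw [hA₀cl, hP₀cl]
    exact Subgroup.closure_mono fun σ hσ => List.mem_of_mem_drop hσ
  let T : Subgroup M24 := P₀.subgroupOf M24
  let f : T →* Equiv.Perm GolayPt := (M24.subtype).comp T.subtype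
  have hf : Function.Injective f := fun a b hab' => Subtype.ext (Subtype.ext hab')
  have hrange : f.range = P₀ := by
    ext σ
    constructor
    · rintro ⟨s, rfl⟩
      exact s.2
    · exact fun h => ⟨⟨⟨σ, hP₀le h⟩, h⟩, rfl⟩
  let v : T → List ℕ := fun s => toList (f s)
  have hv : Function.Injective v := fun a b hab' => hf (toList_injective hab')
  have hvmul : ∀ a b : T, v (a * b) = comp (v a) (v b) := fun a b => by
    show toList (f (a * b)) = _
    rw [map_mul]; exact toList_mul _ _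
  have hvone : v 1 = idL := by show toList (f 1) = _; rw [map_one]; exact toList_one
  have hvinv : ∀ a : T, v a⁻¹ = invList (v a) := fun a => by
    show toList (f a⁻¹) = _
    rw [map_inv]; exact (toList_inv _).symm
  have hvk : ∀ a x : T, v ⁅a, x⁆ = kL (v a) (v x) := fun a x => by
    rw [commutatorElement_def, show a * x * a⁻¹ * x⁻¹ = a * x * (x * a)⁻¹ by group,
      hvmul, hvinv, hvmul, hvmul]
    rfl
  have hvE : ∀ s : T, v s ∈ elts gens := fun s => (hP₀.1 _).mp s.2
  have hlift : ∀ l ∈ elts gens, ∃ s : T, v s = l := by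
    intro l hl
    obtain ⟨σ, rfl⟩ := hP₀.2 l hl
    exact ⟨⟨⟨σ, hP₀le ((hP₀.1 σ).mpr hl)⟩, (hP₀.1 σ).mpr hl⟩, rfl⟩
  have hTcard : Nat.card T = 2 ^ 10 :=
    (Nat.card_congr (Subgroup.subgroupOfEquivOfLe hP₀le).toEquiv).trans
      (hP₀card.trans (by rfl))
  have hcl : Subgroup.closure {s : T | v s ∈ gens} = ⊤ := by
    rw [eq_top_iff]
    intro x _
    have h1 : f x ∈ (Subgroup.closure {s : T | v s ∈ gens}).map f := by
      have h2 : f x ∈ P₀ := x.2
      rw [hP₀cl] at h2
      refine (?_ : Subgroup.closure {τ : Equiv.Perm GolayPt | toList τ ∈ gens} ≤ _) h2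
      rw [Subgroup.closure_le]
      intro τ hτ
      have hτP : τ ∈ P₀ := hP₀cl ▸ Subgroup.subset_closure hτ
      exact ⟨⟨⟨τ, hP₀le hτP⟩, hτP⟩, Subgroup.subset_closure hτ, rfl⟩
    exact (Subgroup.mem_map_iff_mem hf).1 h1
  obtain ⟨z₀, hz₀⟩ := hlift z hzE
  have hz₀c : z₀ ∈ Subgroup.center T := by
    rw [Subgroup.mem_center_iff]
    have hle : Subgroup.closure {s : T | v s ∈ gens} ≤ Subgroup.centralizer {z₀} := by
      rw [Subgroup.closure_le]
      intro s hs
      refine Subgroup.mem_centralizer_singleton_iff.mpr (hv ?_)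
      rw [hvmul, hvmul, hz₀]
      exact (hzc _ hs).symm
    intro s
    exact Subgroup.mem_centralizer_singleton_iff.mp (hle (hcl ▸ Subgroup.mem_top s))
  have hz₀1 : z₀ ≠ 1 := fun he => hzne (by rw [← hz₀, he]; exact hvone)
  have hcenmem : ∀ s : T, s ∈ Subgroup.center T → s = 1 ∨ s = z₀ := by
    intro s hs
    have h := hcen
    simp only [centreOk, List.all_eq_true, Bool.or_eq_true, Bool.not_eq_true', beq_iff_eq] at h
    rcases h (v s) (hvE s) with h | h | h
    · exfalso
      rw [List.all_eq_false] at h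
      obtain ⟨y, hy, hy'⟩ := h
      obtain ⟨σ, rfl⟩ := exists_valid_of_chainOk hch y hy
      have hσP : σ ∈ P₀ := hP₀cl ▸ Subgroup.subset_closure hy
      refine hy' (beq_iff_eq.mpr ?_)
      have := congrArg v (Subgroup.mem_center_iff.mp hs ⟨⟨σ, hP₀le hσP⟩, hσP⟩)
      rw [hvmul, hvmul] at this
      exact this.symm
    · exact Or.inl (hv (h.trans hvone.symm))
    · exact Or.inr (hv (h.trans hz₀.symm))
  have hcencard : Nat.card (Subgroup.center T) = 2 := by
    rw [Nat.card_eq_two_iff]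
    refine ⟨1, ⟨z₀, hz₀c⟩, fun he => hz₀1 (congrArg Subtype.val he).symm, ?_⟩
    ext s
    simp only [Set.mem_insert_iff, Set.mem_singleton_iff, Set.mem_univ, iff_true]
    exact (hcenmem s.1 s.2).imp Subtype.ext Subtype.ext
  have hScard : Nat.card (T ⧸ Subgroup.center T) = 512 := by
    have := Subgroup.card_eq_card_quotient_mul_card_subgroup (Subgroup.center T)
    rw [hTcard, hcencard] at this
    omega
  let π : T →* T ⧸ Subgroup.center T := QuotientGroup.mk' (Subgroup.center T)
  have hπ : Function.Surjective π := QuotientGroup.mk'_surjective _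
  have hπeq : ∀ a b : T, eqZ (v a) (v b) = true ↔ π a = π b := by
    intro a b
    rw [eqZ, Bool.or_eq_true, beq_iff_eq, beq_iff_eq, ← hz₀, ← hvmul, hv.eq_iff, hv.eq_iff]
    constructor
    · rintro (he | he)
      · rw [he]
      · rw [he, map_mul, show π z₀ = 1 from (QuotientGroup.eq_one_iff z₀).mpr hz₀c, mul_one]
    · intro he
      have hmem : b⁻¹ * a ∈ Subgroup.center T := QuotientGroup.eq.mp he.symm
      rcases hcenmem _ hmem with h1 | h1
      · exact Or.inl (inv_mul_eq_one.mp h1).symm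
      · exact Or.inr (inv_mul_eq_iff_eq_mul.mp h1)
  have hπone : ∀ a : T, eqZ (v a) idL = true ↔ π a = 1 := fun a => by
    rw [← hvone, hπeq, map_one]
  have hcommZ : ∀ a x : T, commZ (v a) (v x) = true ↔ π a * π x = π x * π a := by
    intro a x
    rw [← map_mul, ← map_mul, ← hπeq, hvmul, hvmul, eqZ, commZ]
  -- subgroups of the quotient given by lists
  have hsub : ∀ (Q₀ : Subgroup (Equiv.Perm GolayPt)) (L : List (List ℕ)), IsListed Q₀ L →
      Q₀ ≤ P₀ → z ∈ L → ∀ s : T, π s ∈ (Q₀.comap f).map π ↔ v s ∈ L := by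
    intro Q₀ L hL _ hzL s
    constructor
    · rintro ⟨t, ht, hts⟩
      have ht' : f t ∈ Q₀ := ht
      have hz' : f z₀ ∈ Q₀ := (hL.1 _).mpr (by
        show v z₀ ∈ L
        rw [hz₀]; exact hzL)
      have hmem : t⁻¹ * s ∈ Subgroup.center T := QuotientGroup.eq.mp hts
      refine (hL.1 _).mp ?_
      rcases hcenmem _ hmem with h1 | h1
      · rw [← inv_mul_eq_one.mp h1]; exact ht'
      · rw [inv_mul_eq_iff_eq_mul.mp h1, map_mul]; exact mul_mem ht' hz'
    · exact fun h => ⟨s, (hL.1 _).mpr h, rfl⟩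
  have hdouble : ∀ B : Subgroup (T ⧸ Subgroup.center T),
      Nat.card (B.comap π) = 2 * Nat.card B := by
    intro B
    have h1 := (B.comap π).card_mul_index
    rw [Subgroup.index_comap_of_surjective _ hπ, hTcard] at h1
    have h2 := B.card_mul_index
    rw [hScard] at h2
    refine Nat.eq_of_mul_eq_mul_right (Nat.pos_of_ne_zero Subgroup.index_ne_zero_of_finite :
      0 < B.index) ?_
    rw [h1, Nat.mul_assoc, h2]
    norm_num
  have hsubcard : ∀ (Q₀ : Subgroup (Equiv.Perm GolayPt)) (L : List (List ℕ)), IsListed Q₀ L →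
      Q₀ ≤ P₀ → z ∈ L → 2 * Nat.card ((Q₀.comap f).map π) = Nat.card Q₀ := by
    intro Q₀ L hL hle hzL
    rw [← hdouble]
    refine Nat.card_congr (Equiv.ofBijective (fun s => ⟨f s.1, (hL.1 _).mpr
      ((hsub Q₀ L hL hle hzL s.1).mp s.2)⟩) ⟨fun a b he => Subtype.ext (hf (Subtype.mk.inj he)),
      fun q => ?_⟩)
    exact ⟨⟨⟨⟨q.1, hP₀le (hle q.2)⟩, hle q.2⟩,
      (hsub Q₀ L hL hle hzL _).mpr ((hL.1 _).mp q.2)⟩, rfl⟩
  let A : Subgroup (T ⧸ Subgroup.center T) := (A₀.comap f).map π
  have hzA' : z ∈ elts (gens.drop 3) := hzA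
  have hmemA : ∀ s : T, π s ∈ A ↔ v s ∈ aElts := hsub A₀ _ hA₀ hA₀le hzA'
  have hAcard : Nat.card A = 64 := by
    have h1 : 2 * Nat.card A = Nat.card A₀ := hsubcard A₀ _ hA₀ hA₀le hzA'
    rw [hA₀card] at h1
    have h2 : (gens.drop 3).length = 7 := rfl
    rw [h2] at h1
    omega
  have hnodupA : aElts.Nodup := by
    have := okSquare_true
    simp only [okSquare, Bool.and_eq_true] at this
    exact nodup_of_nodupB this.1
  have hfix : ∀ (xs : List (List ℕ)) (B : Subgroup (T ⧸ Subgroup.center T)),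
      (∀ s : T, π s ∈ B ↔ π s ∈ A ∧ ∀ l ∈ xs, commZ (v s) l = true) →
      2 * Nat.card B = (fixZ xs).length := by
    intro xs B hB
    have hnd : (fixZ xs).Nodup := hnodupA.filter _
    rw [← hdouble B, ← List.toFinset_card_of_nodup hnd, ← Nat.card_eq_finsetCard]
    refine Nat.card_congr (Equiv.ofBijective (fun s => ⟨v s.1, ?_⟩)
      ⟨fun a b he => Subtype.ext (hv (Subtype.mk.inj he)), ?_⟩)
    · rw [List.mem_toFinset, fixZ, List.mem_filter, List.all_eq_true]
      exact ⟨(hmemA _).mp ((hB _).mp s.2).1, ((hB _).mp s.2).2⟩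
    · rintro ⟨l, hl⟩
      rw [List.mem_toFinset, fixZ, List.mem_filter, List.all_eq_true] at hl
      obtain ⟨a, ha⟩ := hA₀.2 l hl.1
      have haA : a ∈ A₀ := (hA₀.1 a).mpr (ha ▸ hl.1)
      refine ⟨⟨⟨⟨a, hP₀le (hA₀le haA)⟩, hA₀le haA⟩, ?_⟩, Subtype.ext ha⟩
      show π _ ∈ B
      rw [hB]
      refine ⟨(hmemA _).mpr (?_ : toList a ∈ aElts), ?_⟩
      · rw [ha]; exact hl.1
      · intro l' hl'
        show commZ (toList a) l' = true
        rw [ha]; exact hl.2 l' hl'
  -- the data from the first library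
  obtain ⟨hcomm, hexp, hrep⟩ : (∀ a ∈ A, ∀ b ∈ A, a * b = b * a) ∧ (∀ a ∈ A, a * a = 1) ∧
      ∀ q : T ⧸ Subgroup.center T, ∃ t : T, v t ∈ tops ∧ (π t)⁻¹ * q ∈ A := by
    have hclA : A = Subgroup.closure (π '' {s : T | v s ∈ gens.drop 3}) := by
      show (A₀.comap f).map π = _
      rw [← MonoidHom.map_closure]
      congr 1
      refine le_antisymm (fun s hs => ?_) ?_
      · have h1 : f s ∈ (Subgroup.closure {s : T | v s ∈ gens.drop 3}).map f := by
          have hs' : f s ∈ A₀ := hs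
          rw [hA₀cl] at hs'
          refine (?_ : Subgroup.closure {τ : Equiv.Perm GolayPt | toList τ ∈ gens.drop 3} ≤ _) hs'
          rw [Subgroup.closure_le]
          intro τ hτ
          have hτP : τ ∈ P₀ := hA₀le (hA₀cl ▸ Subgroup.subset_closure hτ)
          exact ⟨⟨⟨τ, hP₀le hτP⟩, hτP⟩, Subgroup.subset_closure hτ, rfl⟩
        exact (Subgroup.mem_map_iff_mem hf).1 h1
      · rw [Subgroup.closure_le]
        intro s hs
        show f s ∈ A₀
        rw [hA₀cl]
        exact Subgroup.subset_closure hs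
    have hc1 : ∀ a ∈ A, ∀ b ∈ A, a * b = b * a := by
      have h1 : ∀ b ∈ π '' {s : T | v s ∈ gens.drop 3}, A ≤ Subgroup.centralizer {b} := by
        rintro _ ⟨y, hy, rfl⟩
        rw [hclA, Subgroup.closure_le]
        rintro _ ⟨x, hx, rfl⟩
        exact Subgroup.mem_centralizer_singleton_iff.mpr
          ((hcommZ x y).mp ((hab _ hx).1 _ hy))
      intro a ha b hb
      have h2 : A ≤ Subgroup.centralizer {a} := by
        conv_lhs => rw [hclA]
        rw [Subgroup.closure_le]
        intro y hy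
        exact Subgroup.mem_centralizer_singleton_iff.mpr
          (Subgroup.mem_centralizer_singleton_iff.mp (h1 y hy ha)).symm
      exact (Subgroup.mem_centralizer_singleton_iff.mp (h2 hb)).symm
    refine ⟨hc1, ?_, ?_⟩
    · intro a ha
      rw [hclA] at ha
      induction ha using Subgroup.closure_induction with
      | mem y hy =>
        obtain ⟨x, hx, rfl⟩ := hy
        rw [← map_mul, ← hπone, hvmul]
        rcases (hab _ hx).2 with h1 | h1
        · rw [h1]; rfl
        · rw [h1, eqZ, Bool.or_eq_true]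
          exact Or.inr (by rw [beq_iff_eq]; decide +kernel)
      | one => exact one_mul 1
      | mul a b ha hb iha ihb =>
        rw [← hclA] at ha hb
        rw [mul_assoc, ← mul_assoc b a b, hc1 b hb a ha, mul_assoc a b b, ihb, mul_one, iha]
      | inv a _ iha => rw [← mul_inv_rev, iha, inv_one]
    · intro q
      obtain ⟨s, rfl⟩ := hπ q
      obtain ⟨t, a, ht, ha, he⟩ := exists_top (gens.take 3) (gens.drop 3)
        (fun g hg => exists_valid_of_chainOk hch g (List.mem_of_mem_take hg)) hA₀.2 (v s)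
        (by rw [List.take_append_drop]; exact hvE s)
      have haA : a ∈ A₀ := (hA₀.1 a).mpr ha
      have hta : t * a = f s := toList_injective he
      have htP : t ∈ P₀ := by
        have hs : t * a ∈ P₀ := hta ▸ s.2
        exact (Subgroup.mul_mem_cancel_right _ (hA₀le haA)).mp hs
      let t' : T := ⟨⟨t, hP₀le htP⟩, htP⟩
      refine ⟨t', ht, ?_⟩
      rw [← map_inv, ← map_mul, hmemA]
      show toList (f (t'⁻¹ * s)) ∈ aElts
      rw [map_mul, map_inv, ← hta]
      show toList (t⁻¹ * (t * a)) ∈ aElts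
      rw [inv_mul_cancel_left]
      exact ha
  have hnormal : A.Normal := by
    refine ⟨fun a ha q => ?_⟩
    have hgen : ∀ s : T, v s ∈ gens → ∀ b ∈ A, π s * b * (π s)⁻¹ ∈ A := by
      intro s hs b hb
      rcases List.mem_append.mp ((List.take_append_drop 3 gens).symm ▸ hs :
          v s ∈ gens.take 3 ++ gens.drop 3) with hs' | hs'
      · have hsub' : A ≤ A.comap (MulAut.conj (π s)).toMonoidHom := by
          rintro _ ⟨x, hx, rfl⟩
          have hx' : f x ∈ A₀ := hx
          have h1 : f (s * x * s⁻¹) ∈ A₀ := by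
            rw [hA₀cl] at hx'
            suffices h : Subgroup.closure {τ : Equiv.Perm GolayPt | toList τ ∈ gens.drop 3} ≤
                A₀.comap (MulAut.conj (f s)).toMonoidHom by
              simpa [map_mul, map_inv] using h hx'
            rw [Subgroup.closure_le]
            intro τ hτ
            show f s * τ * (f s)⁻¹ ∈ A₀
            obtain ⟨l, hl, he⟩ := hnorm _ hs' _ hτ
            obtain ⟨c, rfl⟩ := hA₀.2 l hl
            rw [show f s * τ * (f s)⁻¹ = c from mul_inv_eq_iff_eq_mul.mpr (toList_injective (by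
              rw [toList_mul, toList_mul]; exact he))]
            exact (hA₀.1 c).mpr hl
          exact ⟨s * x * s⁻¹, h1, by simp⟩
        exact hsub' hb
      · have hsA : π s ∈ A := (hmemA s).mpr (by
          rcases hA₀.2 _ (hA₀.1 (f s) |>.mp (hA₀cl ▸ Subgroup.subset_closure hs')) with ⟨c, hc⟩
          exact hA₀.1 (f s) |>.mp (hA₀cl ▸ Subgroup.subset_closure hs'))
        exact mul_mem (mul_mem hsA hb) (inv_mem hsA)
    obtain ⟨s, rfl⟩ := hπ q
    have hmem : s ∈ (Subgroup.normalizer (A : Set (T ⧸ Subgroup.center T))).comap π := by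
      have hle : Subgroup.closure {s : T | v s ∈ gens} ≤
          (Subgroup.normalizer (A : Set (T ⧸ Subgroup.center T))).comap π := by
        rw [Subgroup.closure_le]
        intro g hg
        refine Subgroup.mem_normalizer_iff.mpr fun b => ⟨hgen g hg b, fun hb => ?_⟩
        have heq : A.map (MulAut.conj (π g)).toMonoidHom = A :=
          Subgroup.eq_of_le_of_card_ge (by rintro _ ⟨y, hy, rfl⟩; exact hgen g hg y hy)
            (card_map _ (MulEquiv.injective _) A).ge
        rw [← heq] at hb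
        obtain ⟨y, hy, he⟩ := hb
        exact (mul_left_cancel (mul_right_cancel (he : π g * y * (π g)⁻¹ = π g * b * (π g)⁻¹))) ▸ hy
      exact hle (hcl ▸ Subgroup.mem_top s)
    exact (Subgroup.mem_normalizer_iff.mp hmem a).mp ha
  refine ⟨T, hTcard, A, ?_⟩
  -- representatives
  have htops : ∀ q, q ∉ A → ∃ t : T, v t ∈ tops ∧ (π t)⁻¹ * q ∈ A ∧ v t ≠ idL := by
    intro q hq
    obtain ⟨t, ht, htq⟩ := hrep q
    refine ⟨t, ht, htq, fun he => hq ?_⟩
    rwa [show t = 1 from hv (he.trans hvone.symm), map_one, inv_one, one_mul] at htq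
  have hcentT : ∀ (q : T ⧸ Subgroup.center T) (t : T), (π t)⁻¹ * q ∈ A → ∀ b ∈ A,
      (b * q = q * b ↔ b * π t = π t * b) := by
    intro q t htq b hb
    obtain ⟨a, ha, rfl⟩ : ∃ a ∈ A, q = π t * a := ⟨_, htq, by group⟩
    have := hcomm b hb a ha
    constructor
    · intro h
      calc b * π t = b * (π t * a) * a⁻¹ := by group
        _ = π t * (a * b) * a⁻¹ := by rw [h]; group
        _ = π t * (b * a) * a⁻¹ := by rw [this]
        _ = π t * b := by group
    · intro h
      rw [← mul_assoc, h, mul_assoc, this, ← mul_assoc]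
  have hfix1 : ∀ (q : T ⧸ Subgroup.center T) (t : T), (π t)⁻¹ * q ∈ A →
      2 * Nat.card (A ⊓ Subgroup.centralizer {q} : Subgroup (T ⧸ Subgroup.center T)) =
        (fixZ [v t]).length := by
    intro q t htq
    refine hfix _ _ fun s => ?_
    rw [Subgroup.mem_inf, Subgroup.mem_centralizer_singleton_iff, List.forall_mem_singleton]
    refine and_congr_right fun hs => ?_
    rw [hcentT q t htq _ hs, hcommZ]
  have hfix2 : ∀ (q r : T ⧸ Subgroup.center T) (t u : T), (π t)⁻¹ * q ∈ A → (π u)⁻¹ * r ∈ A →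
      2 * Nat.card (A ⊓ Subgroup.centralizer {q, r} : Subgroup (T ⧸ Subgroup.center T)) =
        (fixZ [v t, v u]).length := by
    intro q r t u htq hur
    refine hfix _ _ fun s => ?_
    rw [Subgroup.mem_inf, mem_centralizer_pair]
    refine and_congr_right fun hs => ?_
    rw [hcentT q t htq _ hs, hcentT r u hur _ hs]
    simp only [List.forall_mem_cons, hcommZ]
    tauto
  have hne_tops : ∀ (q r : T ⧸ Subgroup.center T) (t u : T), (π t)⁻¹ * q ∈ A → (π u)⁻¹ * r ∈ A →
      q⁻¹ * r ∉ A → v t ≠ v u := by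
    intro q r t u htq hur hqr he
    rw [hv he] at htq
    have := mul_mem (inv_mem htq) hur
    rw [mul_inv_rev, inv_inv, mul_assoc, mul_inv_cancel_left] at this
    exact hqr this
  have hcomm_rep : ∀ (q : T ⧸ Subgroup.center T) (t : T), (π t)⁻¹ * q ∈ A → ∀ b ∈ A,
      ⁅b, q⁆ = ⁅b, π t⁆ := by
    intro q t htq b hb
    obtain ⟨a, ha, rfl⟩ : ∃ a ∈ A, q = π t * a := ⟨_, htq, by group⟩
    rw [commutatorElement_def, commutatorElement_def,
      show b * (π t * a) * b⁻¹ * (π t * a)⁻¹ = b * π t * (a * b⁻¹) * a⁻¹ * (π t)⁻¹ by group,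
      hcomm a ha b⁻¹ (inv_mem hb)]
    group
  have hfixtop : ∀ s : T, π s ∈ fix ⊤ A ↔ π s ∈ A ∧ ∀ l ∈ gens, commZ (v s) l = true := by
    intro s
    rw [fix, Subgroup.mem_inf]
    refine and_congr_right fun _ => ⟨fun h l hl => ?_, fun h => ?_⟩
    · obtain ⟨σ, rfl⟩ := exists_valid_of_chainOk hch l hl
      have hσP : σ ∈ P₀ := hP₀cl ▸ Subgroup.subset_closure hl
      exact (hcommZ s ⟨⟨σ, hP₀le hσP⟩, hσP⟩).mpr (Subgroup.mem_centralizer_iff.mp h _
        (Subgroup.mem_top _)).symm
    · rw [Subgroup.mem_centralizer_iff]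
      intro q _
      obtain ⟨x, rfl⟩ := hπ q
      have hle : Subgroup.closure {y : T | v y ∈ gens} ≤
          (Subgroup.centralizer {π s}).comap π := by
        rw [Subgroup.closure_le]
        intro y hy
        exact Subgroup.mem_centralizer_singleton_iff.mpr ((hcommZ s y).mp (h _ hy)).symm
      exact Subgroup.mem_centralizer_singleton_iff.mp (hle (hcl ▸ Subgroup.mem_top x))
  have hfixcard : 2 * Nat.card (fix ⊤ A) = (fixZ gens).length := hfix _ _ hfixtop
  have hder := okDerived_true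
  simp only [okDerived, Bool.and_eq_true, List.all_eq_true, List.any_eq_true, Bool.or_eq_true,
    Bool.not_eq_true', Nat.ble_eq, List.contains_iff_mem, beq_iff_eq] at hder
  obtain ⟨⟨⟨⟨⟨hcA, h8⟩, hder⟩, hzsurj⟩, hhalf1⟩, hhalf2⟩ := hder
  have htopsE : ∀ w ∈ tops, w ∈ elts gens := by decide +kernel
  obtain ⟨s₀, hs₀⟩ := hlift g0 (by decide +kernel)
  obtain ⟨s₁, hs₁⟩ := hlift (gens.getD 1 idL) (by decide +kernel)
  have hcval : v ⁅s₀, s₁⁆ = cL := by rw [hvk, hs₀, hs₁]; rfl
  have hcv : ∀ a : T, v ⁅a, ⁅s₀, s₁⁆⁆ = kL (v a) cL := fun a => by rw [hvk, hcval]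
  have hfixlist : ∀ w ∈ fixZ gens, ∃ s : T, v s = w ∧ π s ∈ fix ⊤ A := by
    intro w hw
    rw [fixZ, List.mem_filter, List.all_eq_true] at hw
    obtain ⟨a, rfl⟩ := hA₀.2 w hw.1
    have haA : a ∈ A₀ := (hA₀.1 a).mpr hw.1
    exact ⟨⟨⟨a, hP₀le (hA₀le haA)⟩, hA₀le haA⟩, rfl,
      (hfixtop _).mpr ⟨(hmemA _).mpr hw.1, hw.2⟩⟩
  refine
    { le := le_top
      cardS := by rw [Subgroup.card_top, hScard]
      cardA := hAcard
      conjA := fun s _ a ha => hnormal.conj_mem a ha s
      commA := hcomm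
      sqA := hexp
      unique := ?_, fix_one := ?_, fix_le := ?_, fix_comm := ?_, card_fix := ?_
      derived := ?_, half := ?_, split := ?_ }
  · intro B _ hBc hB64
    have hfixle : ∀ q, q ∉ A →
        Nat.card (A ⊓ Subgroup.centralizer {q} : Subgroup (T ⧸ Subgroup.center T)) ≤ 16 := by
      intro q hq
      obtain ⟨t, ht, htq, ht1⟩ := htops q hq
      rcases hone _ ht with h1 | h1
      · exact absurd h1 ht1
      · have := hfix1 q t htq
        omega
    refine InvChar.AbelianSixtyFour.unique (A := A) ⟨hScard, hAcard, hnormal, hcomm, hfixle,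
      ?_, ?_⟩ ⟨⟨fun a b => Subtype.ext (hBc _ a.2 _ b.2)⟩⟩ hB64
    · intro q r hq hr hqr
      obtain ⟨t, ht, htq, ht1⟩ := htops q hq
      obtain ⟨u, hu, hur, hu1⟩ := htops r hr
      rcases htwo _ ht _ hu with ((h1 | h1) | h1) | h1
      · exact absurd h1 ht1
      · exact absurd h1 hu1
      · exact absurd h1 (hne_tops q r t u htq hur hqr)
      · have := hfix2 q r t u htq hur
        omega
    · have h1 : (fixZ gens).length ≤ 8 := hall
      have : Nat.card (A ⊓ Subgroup.center _ : Subgroup (T ⧸ Subgroup.center T)) =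
          Nat.card (fix ⊤ A) := by rw [fix, Subgroup.coe_top, Subgroup.centralizer_univ]
      omega
  · intro q _ hq hqq
    obtain ⟨t, ht, htq, ht1⟩ := htops q hq
    have h := okSquare_true
    simp only [okSquare, Bool.and_eq_true, List.all_eq_true, Bool.or_eq_true, Bool.not_eq_true',
      beq_iff_eq, Nat.ble_eq] at h
    have h16 := hfix1 q t htq
    rcases h.2 _ ht with (h1 | h1) | h1
    · exact absurd h1 ht1
    · exfalso
      have hsq : π (t * t) ∈ A := by
        obtain ⟨a, ha, hqa⟩ : ∃ a ∈ A, q = π t * a := ⟨_, htq, by group⟩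
        rw [map_mul]
        rw [hqa] at hqq
        rw [show π t * π t = (π t * a * (π t * a)) * a⁻¹ * ((π t)⁻¹ * a * π t)⁻¹ by group]
        refine mul_mem (mul_mem hqq (inv_mem ha)) (inv_mem ?_)
        simpa using hnormal.conj_mem a ha (π t)⁻¹
      rw [hmemA, hvmul] at hsq
      rw [List.contains_iff_mem.mpr hsq] at h1
      exact Bool.noConfusion h1
    · rcases hone _ ht with h2 | h2
      · exact absurd h2 ht1
      · omega
  · intro q _ r _ hq hr hqr
    obtain ⟨t, ht, htq, ht1⟩ := htops q hq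
    obtain ⟨u, hu, hur, hu1⟩ := htops r hr
    rcases htwo _ ht _ hu with ((h1 | h1) | h1) | h1
    · exact absurd h1 ht1
    · exact absurd h1 hu1
    · exact absurd h1 (hne_tops q r t u htq hur hqr)
    · have := hfix2 q r t u htq hur
      omega
  · intro q _ r _ hq hr hqr hc8 b hb
    obtain ⟨t, ht, htq, ht1⟩ := htops q hq
    obtain ⟨u, hu, hur, hu1⟩ := htops r hr
    have h := okPair_true
    simp only [okPair, List.all_eq_true, Bool.or_eq_true, beq_iff_eq, Nat.ble_eq,
      Bool.and_eq_true] at h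
    rcases h _ ht _ hu with (((h1 | h1) | h1) | h1) | h1
    · exact absurd h1 ht1
    · exact absurd h1 hu1
    · exact absurd h1 (hne_tops q r t u htq hur hqr)
    · have := hfix2 q r t u htq hur
      omega
    · obtain ⟨x, rfl⟩ := hπ b
      obtain ⟨h2, h3⟩ := h1 (v x) ((hmemA x).mp hb)
      rw [← hvk, hcommZ, map_commutatorElement] at h2 h3
      have hk : ⁅π x, π t⁆ ∈ A := by
        rw [commutatorElement_def, mul_assoc (π x) (π t), mul_assoc (π x)]
        exact mul_mem hb (hnormal.conj_mem _ (inv_mem hb) _)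
      rw [hcomm_rep q t htq _ hb, mem_centralizer_pair, hcentT q t htq _ hk, hcentT r u hur _ hk]
      exact ⟨h2, h3⟩
  · have h1 : (fixZ gens).length ≤ 8 := hall
    omega
  · refine ⟨π s₀, Subgroup.mem_top _, π s₁, Subgroup.mem_top _, ?_, ?_, ?_⟩
    · rw [← map_commutatorElement, hmemA, hcval]
      intro hm
      rw [List.contains_iff_mem.mpr hm] at hcA
      exact Bool.noConfusion hcA
    · intro q _ hq
      obtain ⟨t, ht, htq, ht1⟩ := htops q hq
      rcases hder _ ht with (h1 | h1) | ⟨w, hw, h1⟩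
      · exact absurd h1 ht1
      · left
        rw [← hcval, ← hvinv, ← hvmul, ← hmemA, map_mul, map_inv, map_commutatorElement] at h1
        rw [show ⁅π s₀, π s₁⁆⁻¹ * q = ⁅π s₀, π s₁⁆⁻¹ * π t * ((π t)⁻¹ * q) by group]
        exact mul_mem h1 htq
      · obtain ⟨u, rfl⟩ : ∃ u : T, v u = w := by
          refine hlift w ?_
          exact htopsE w hw
        rw [← hcval, ← hvk, ← hvinv, ← hvmul, ← hmemA, map_mul, map_inv, map_commutatorElement,
          map_commutatorElement] at h1
        refine Or.inr ⟨π u, Subgroup.mem_top _, ?_⟩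
        have hmk : QuotientGroup.mk' A q = QuotientGroup.mk' A (π t) :=
          ((QuotientGroup.mk'_eq_mk' A).mpr ⟨_, htq, by group⟩).symm
        rw [← QuotientGroup.eq_one_iff, ← QuotientGroup.mk'_apply] at h1 ⊢
        rw [map_mul, map_inv, map_commutatorElement _ q, hmk, ← map_commutatorElement (QuotientGroup.mk' A),
          ← map_inv, ← map_mul]
        exact h1
    · intro q hq
      obtain ⟨x, rfl⟩ := hπ q
      obtain ⟨a, ha, h1⟩ := hzsurj (v x) (by
        rw [fixZ, List.mem_filter, List.all_eq_true]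
        exact ⟨(hmemA _).mp ((hfixtop x).mp hq).1, ((hfixtop x).mp hq).2⟩)
      obtain ⟨σ, rfl⟩ := hA₀.2 a ha
      have hσ : σ ∈ A₀ := (hA₀.1 σ).mpr ha
      let s : T := ⟨⟨σ, hP₀le (hA₀le hσ)⟩, hA₀le hσ⟩
      refine ⟨π s, (hmemA s).mpr ha, ?_⟩
      rw [← map_commutatorElement, ← map_commutatorElement, ← hπeq, hcv]
      exact h1
  · refine ⟨π s₀, Subgroup.mem_top _, ?_, ?_⟩
    · obtain ⟨a, ha, h1, h2⟩ := hhalf1
      obtain ⟨σ, rfl⟩ := hA₀.2 a ha
      have hσ : σ ∈ A₀ := (hA₀.1 σ).mpr ha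
      let s : T := ⟨⟨σ, hP₀le (hA₀le hσ)⟩, hA₀le hσ⟩
      have hk : v ⁅s, s₀⁆ = kL (toList σ) g0 := by rw [hvk, hs₀]; rfl
      obtain ⟨y, hy, hy'⟩ := hfixlist _ h1
      have hy1 : y = ⁅s, s₀⁆ := hv (hy.trans hk.symm)
      refine ⟨π s, (hmemA s).mpr ha, ?_, fun e => ?_⟩
      · rw [← map_commutatorElement, ← hy1]; exact hy'
      · rw [← map_commutatorElement, ← hπone, hk] at e
        rw [e] at h2
        exact Bool.noConfusion h2
    · obtain ⟨w, hw, h1⟩ := hhalf2
      obtain ⟨y, rfl, hy'⟩ := hfixlist _ hw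
      refine ⟨π y, hy', fun b hb e => ?_⟩
      obtain ⟨x, rfl⟩ := hπ b
      have h2 := h1 (v x) ((hmemA x).mp hb)
      rw [← map_commutatorElement, ← hπeq, hvk, hs₀] at e
      rw [e] at h2
      exact Bool.noConfusion h2
  · have hsp := okSplit_true
    simp only [okSplit, okInv, Bool.and_eq_true, List.all_eq_true, Bool.or_eq_true,
      Bool.not_eq_true', List.contains_iff_mem] at hsp
    obtain ⟨⟨⟨⟨⟨hchV, hzV⟩, hVA⟩, hVn⟩, ⟨⟨hchW, hzW⟩, hWA⟩, hWn⟩, hd⟩ := hsp
    have hbuild : ∀ ws : List (List ℕ), ws.length = 4 → chainOk ws = true → z ∈ ws →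
        (∀ x ∈ ws, x ∈ aElts) →
        (∀ g ∈ gens, ∀ x ∈ ws, comp (comp g x) (invList g) ∈ elts ws) →
        ∃ U : Subgroup (T ⧸ Subgroup.center T), U ≤ A ∧ Nat.card U = 8 ∧
          (∀ s : T, π s ∈ U ↔ v s ∈ elts ws) ∧ ∀ q, ∀ u ∈ U, q * u * q⁻¹ ∈ U := by
      intro ws hlen hchw hzw hwA hwn
      obtain ⟨Q₀, hQ₀, hQcard, hQcl⟩ := exists_chain ws hchw
      have hQA : Q₀ ≤ A₀ := by
        rw [hQcl, Subgroup.closure_le]
        exact fun τ hτ => (hA₀.1 τ).mpr (hwA _ hτ)
      have hzQ : z ∈ elts ws := by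
        have : f z₀ ∈ Q₀ := by
          rw [hQcl]; exact Subgroup.subset_closure (show v z₀ ∈ ws by rw [hz₀]; exact hzw)
        exact hz₀ ▸ (hQ₀.1 _).mp this
      have hQP := hQA.trans hA₀le
      refine ⟨(Q₀.comap f).map π, Subgroup.map_mono (Subgroup.comap_mono hQA), ?_,
        hsub Q₀ _ hQ₀ hQP hzQ, ?_⟩
      · have := hsubcard Q₀ _ hQ₀ hQP hzQ
        rw [hQcard, hlen] at this
        omega
      · intro q u hu
        obtain ⟨s, rfl⟩ := hπ q
        obtain ⟨x, hx, rfl⟩ := hu
        have hinv : Subgroup.closure {y : T | v y ∈ gens} ≤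
            (Subgroup.normalizer (Q₀ : Set (Equiv.Perm GolayPt))).comap f := by
          rw [Subgroup.closure_le]
          intro y hy
          have hsub' : Q₀ ≤ Q₀.comap (MulAut.conj (f y)).toMonoidHom := by
            conv_lhs => rw [hQcl]
            rw [Subgroup.closure_le]
            intro τ hτ
            show f y * τ * (f y)⁻¹ ∈ Q₀
            refine (hQ₀.1 _).mpr ?_
            rw [toList_mul, toList_mul, ← toList_inv]
            exact hwn _ hy _ hτ
          refine Subgroup.mem_normalizer_iff.mpr fun b => ⟨fun hb => hsub' hb, fun hb => ?_⟩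
          have heq : Q₀.map (MulAut.conj (f y)).toMonoidHom = Q₀ :=
            Subgroup.eq_of_le_of_card_ge (by rintro _ ⟨c, hc, rfl⟩; exact hsub' hc)
              (card_map _ (MulEquiv.injective _) Q₀).ge
          rw [← heq] at hb
          obtain ⟨c, hc, he⟩ := hb
          exact (mul_left_cancel (mul_right_cancel
            (he : f y * c * (f y)⁻¹ = f y * b * (f y)⁻¹))) ▸ hc
        have hsn : f s ∈ Subgroup.normalizer (Q₀ : Set (Equiv.Perm GolayPt)) :=
          hinv (hcl ▸ Subgroup.mem_top s)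
        refine ⟨s * x * s⁻¹, ?_, by simp⟩
        show f (s * x * s⁻¹) ∈ Q₀
        rw [map_mul, map_mul, map_inv]
        exact (Subgroup.mem_normalizer_iff.mp hsn _).mp hx
    obtain ⟨V, hV, cV, mV, iV⟩ := hbuild vGens rfl hchV hzV hVA hVn
    obtain ⟨W, hW, cW, mW, iW⟩ := hbuild wGens rfl hchW hzW hWA hWn
    refine ⟨V, W, hV, hW, cV, cW, ?_, fun s _ u hu => iV s u hu, fun s _ u hu => iW s u hu⟩
    rw [Subgroup.eq_bot_iff_forall]
    intro q hq
    obtain ⟨x, rfl⟩ := hπ q
    rcases hd (v x) ((mV x).mp hq.1) with h1 | h1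
    · rw [List.contains_iff_mem.mpr ((mW x).mp hq.2)] at h1
      exact Bool.noConfusion h1
    · exact (hπone x).mp h1

end CfsgLib.M24Fusion
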