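import Cfsg.Agent.Lib.M24Fusion.Split
import Cfsg.Agent.Lib.Coprime.Action

/-!
The members of an invariant decomposition of `A`: order 8, a single nontrivial fixed point, and no
nontrivial automorphism group of odd order normalized by `S`.
-/

set_option autoImplicit false
set_option linter.style.haveILetI false
set_option linter.unusedSectionVars false

namespace CfsgLib.M24Fusion

open Subgroup CfsgLib.TwoGroups.FT
open scoped commutatorElement

variable {G : Type*} [Group G] [Finite G] {S : Sylow 2 G} {A : Subgroup G}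

/-- A decomposition of `A` invariant under `S`. -/
structure Pair' (S : Sylow 2 G) (A V W : Subgroup G) : Prop where
  leV : V ≤ A
  leW : W ≤ A
  disj : V ⊓ W = ⊥
  prod : ∀ a ∈ A, ∃ v ∈ V, ∃ w ∈ W, a = v * w
  neV : V ≠ ⊥
  neW : W ≠ ⊥
  invV : ∀ s ∈ (S : Subgroup G), ∀ v ∈ V, s * v * s⁻¹ ∈ V
  invW : ∀ s ∈ (S : Subgroup G), ∀ w ∈ W, s * w * s⁻¹ ∈ W

variable {V W : Subgroup G}

theorem Pair'.symm (h : Loc (S : Subgroup G) A) (P : Pair' S A V W) : Pair' S A W V :=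
  ⟨P.leW, P.leV, by rw [inf_comm]; exact P.disj, fun a ha => by
    obtain ⟨v, hv, w, hw, rfl⟩ := P.prod a ha
    exact ⟨w, hw, v, hv, h.commA v (P.leV hv) w (P.leW hw)⟩, P.neW, P.neV, P.invW, P.invV⟩

theorem Pair'.eq_of_mul_eq (P : Pair' S A V W) {v v' w w' : G} (hv : v ∈ V) (hv' : v' ∈ V)
    (hw : w ∈ W) (hw' : w' ∈ W) (he : v * w = v' * w') : v = v' ∧ w = w' := by
  have h1 : v'⁻¹ * v = w' * w⁻¹ := by rw [eq_mul_inv_iff_mul_eq, mul_assoc, he, inv_mul_cancel_left]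
  have h2 : v'⁻¹ * v ∈ V ⊓ W := ⟨V.mul_mem (V.inv_mem hv') hv, h1 ▸ W.mul_mem hw' (W.inv_mem hw)⟩
  rw [P.disj, mem_bot, inv_mul_eq_one] at h2
  exact ⟨h2.symm, mul_left_cancel (a := v') (by rw [← he, h2])⟩

theorem Pair'.card_mul (h : Loc (S : Subgroup G) A) (P : Pair' S A V W) :
    Nat.card V * Nat.card W = 64 := by
  rw [← Nat.card_prod, ← h.cardA]
  refine Nat.card_congr (Equiv.ofBijective
    (fun p : V × W => (⟨p.1.1 * p.2.1, A.mul_mem (P.leV p.1.2) (P.leW p.2.2)⟩ : A)) ⟨?_, ?_⟩)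
  · rintro ⟨v, w⟩ ⟨v', w'⟩ he
    obtain ⟨h1, h2⟩ := P.eq_of_mul_eq v.2 v'.2 w.2 w'.2 (Subtype.ext_iff.1 he)
    exact Prod.ext (Subtype.ext h1) (Subtype.ext h2)
  · rintro ⟨a, ha⟩
    obtain ⟨v, hv, w, hw, rfl⟩ := P.prod a ha
    exact ⟨(⟨v, hv⟩, ⟨w, hw⟩), rfl⟩

theorem Pair'.unique_fix (h : Loc (S : Subgroup G) A) (P : Pair' S A V W) {z z' : G} (hz : z ∈ V)
    (hz' : z' ∈ V) (hzf : z ∈ fix (S : Subgroup G) A) (hzf' : z' ∈ fix (S : Subgroup G) A)
    (h1 : z ≠ 1) (h1' : z' ≠ 1) : z = z' := by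
  by_contra hne
  obtain ⟨u, hu, hu1, huf⟩ := exists_fix h P.leW P.neW P.invW
  have huV : ∀ y ∈ V, y ≠ u := fun y hy e => hu1 (by
    have : u ∈ V ⊓ W := ⟨e ▸ hy, hu⟩
    rwa [P.disj, mem_bot] at this)
  have hsub : ({1, z, z', z * z', u} : Set G) ⊆ (fix (S : Subgroup G) A : Set G) := by
    intro y hy
    simp only [Set.mem_insert_iff, Set.mem_singleton_iff] at hy
    rcases hy with rfl | rfl | rfl | rfl | rfl
    exacts [one_mem _, hzf, hzf', mul_mem hzf hzf', huf]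
  have hcard : ({1, z, z', z * z', u} : Set G).ncard = 5 := by
    rw [Set.ncard_insert_of_notMem, Set.ncard_insert_of_notMem, Set.ncard_insert_of_notMem,
      Set.ncard_pair (huV _ (V.mul_mem hz hz'))] <;>
      simp only [Set.mem_insert_iff, Set.mem_singleton_iff, not_or]
    · exact ⟨fun e => h1 (mul_eq_right.1 e.symm), huV _ hz'⟩
    · exact ⟨hne, fun e => h1' (mul_eq_left.1 e.symm), huV _ hz⟩
    · refine ⟨h1.symm, h1'.symm, fun e => hne ?_, hu1.symm⟩
      exact (inv_eq_of_mul_eq_one_right (h.sqA z (P.leV hz))).symm.trans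
        (inv_eq_of_mul_eq_one_right e.symm)
  have := Set.ncard_le_ncard hsub
  rw [hcard, ← Nat.card_coe_set_eq] at this
  have h4 : Nat.card (fix (S : Subgroup G) A) = 4 := h.card_fix
  change 5 ≤ Nat.card (fix (S : Subgroup G) A) at this
  omega

theorem Pair'.exists_commutator (h : Loc (S : Subgroup G) A) (P : Pair' S A V W) :
    ∃ x₀ ∈ (S : Subgroup G), ∃ y₀ ∈ (S : Subgroup G), (∀ x ∈ (S : Subgroup G), x ∉ A →
      ⁅x₀, y₀⁆⁻¹ * x ∈ A ∨ ∃ y ∈ (S : Subgroup G), ⁅x₀, y₀⁆⁻¹ * ⁅x, y⁆ ∈ A) ∧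
      ∃ v ∈ V, ⁅v, ⁅x₀, y₀⁆⁆ ≠ 1 := by
  obtain ⟨x₀, hx₀, y₀, hy₀, -, hall, hsurj⟩ := h.derived
  refine ⟨x₀, hx₀, y₀, hy₀, hall, ?_⟩
  obtain ⟨z, hz, hz1, hzf⟩ := exists_fix h P.leV P.neV P.invV
  obtain ⟨a, ha, rfl⟩ := hsurj z hzf
  obtain ⟨v, hv, w, hw, rfl⟩ := P.prod a ha
  set c := ⁅x₀, y₀⁆
  have hcS : c ∈ (S : Subgroup G) := by
    show ⁅x₀, y₀⁆ ∈ _
    rw [commutatorElement_def]
    exact mul_mem (mul_mem (mul_mem hx₀ hy₀) (inv_mem hx₀)) (inv_mem hy₀)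
  have hk : ∀ K : Subgroup G, (∀ s ∈ (S : Subgroup G), ∀ v ∈ K, s * v * s⁻¹ ∈ K) → ∀ k ∈ K,
      ⁅k, c⁆ ∈ K := fun K hK k hk' => by
    rw [commutatorElement_def, mul_assoc k c, mul_assoc k]
    exact K.mul_mem hk' (hK c hcS _ (K.inv_mem hk'))
  refine ⟨v, hv, fun h1 => hz1 ?_⟩
  have hsplit : ⁅v * w, c⁆ = ⁅v, c⁆ * ⁅w, c⁆ := by
    rw [show ⁅v * w, c⁆ = v * ⁅w, c⁆ * (c * v⁻¹ * c⁻¹) by
      rw [commutatorElement_def, commutatorElement_def]; group,
      h.commA v (P.leV hv) _ (P.leW (hk W P.invW w hw)), mul_assoc,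
      show v * (c * v⁻¹ * c⁻¹) = ⁅v, c⁆ by rw [commutatorElement_def]; group,
      h.commA _ (P.leW (hk W P.invW w hw)) _ (P.leV (hk V P.invV v hv))]
  rw [hsplit, h1, one_mul] at hz ⊢
  have : ⁅w, c⁆ ∈ V ⊓ W := ⟨hz, hk W P.invW w hw⟩
  rwa [P.disj, mem_bot] at this

theorem Pair'.card_ge (h : Loc (S : Subgroup G) A) (P : Pair' S A V W) : 8 ≤ Nat.card V := by
  obtain ⟨x₀, hx₀, y₀, hy₀, -, v, hv, hne⟩ := P.exists_commutator h
  obtain ⟨z, hz, hz1, hzf⟩ := exists_fix h P.leV P.neV P.invV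
  set c := ⁅x₀, y₀⁆
  have hcS : c ∈ (S : Subgroup G) := by
    show ⁅x₀, y₀⁆ ∈ _
    rw [commutatorElement_def]
    exact mul_mem (mul_mem (mul_mem hx₀ hy₀) (inv_mem hx₀)) (inv_mem hy₀)
  have hfixz : ∀ s ∈ (S : Subgroup G), s * z * s⁻¹ = z := fun s hs => by
    rw [mem_centralizer_iff.1 hzf.2 s hs, mul_inv_cancel_right]
  have hdvd : Nat.card V ∣ 2 ^ 6 := ⟨Nat.card W, by rw [P.card_mul h]; rfl⟩
  obtain ⟨i, hi, hie⟩ := (Nat.dvd_prime_pow Nat.prime_two).1 hdvd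
  by_contra hlt
  have h3 : i < 3 := by
    by_contra h3
    exact hlt (hie ▸ Nat.pow_le_pow_right two_pos (not_lt.1 h3))
  have h4 : Nat.card V ≤ 4 := hie ▸ Nat.pow_le_pow_right two_pos (Nat.le_of_lt_succ h3)
  have hv1 : v ≠ 1 := fun e => hne (by rw [e]; simp)
  have hvz : v ≠ z := fun e => hne (by
    rw [e, commutatorElement_eq_one_iff_mul_comm]
    exact (mem_centralizer_iff.1 hzf.2 c hcS).symm)
  have hvz1 : z * v ≠ 1 := fun e => hvz ((inv_eq_of_mul_eq_one_right e).symm.trans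
    (inv_eq_of_mul_eq_one_right (h.sqA z (P.leV hz))))
  have hsub : ({1, z, v, z * v} : Set G) ⊆ (V : Set G) := by
    intro y hy
    simp only [Set.mem_insert_iff, Set.mem_singleton_iff] at hy
    rcases hy with rfl | rfl | rfl | rfl
    exacts [one_mem _, hz, hv, mul_mem hz hv]
  have hcard : ({1, z, v, z * v} : Set G).ncard = 4 := by
    rw [Set.ncard_insert_of_notMem, Set.ncard_insert_of_notMem,
      Set.ncard_pair (fun e => hz1 (mul_eq_right.1 e.symm))] <;>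
      simp only [Set.mem_insert_iff, Set.mem_singleton_iff, not_or]
    · exact ⟨hvz.symm, fun e => hv1 (mul_eq_left.1 e.symm)⟩
    · exact ⟨hz1.symm, hv1.symm, hvz1.symm⟩
  have heq : ({1, z, v, z * v} : Set G) = (V : Set G) :=
    Set.eq_of_subset_of_ncard_le hsub (by rw [hcard, ← Nat.card_coe_set_eq]; exact h4)
  have himg : ∀ s ∈ (S : Subgroup G), s * v * s⁻¹ = v ∨ s * v * s⁻¹ = z * v := by
    intro s hs
    have h1 : s * v * s⁻¹ ∈ ({1, z, v, z * v} : Set G) := heq ▸ P.invV s hs v hv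
    simp only [Set.mem_insert_iff, Set.mem_singleton_iff] at h1
    rcases h1 with e | e | e | e
    · exact absurd (conj_eq_one_iff.1 e) hv1
    · exact absurd (mul_left_cancel (mul_right_cancel (e.trans (hfixz s hs).symm))) hvz
    · exact Or.inl e
    · exact Or.inr e
  have hcomm : ∀ s ∈ (S : Subgroup G), ∀ t ∈ (S : Subgroup G),
      (s * t) * v * (s * t)⁻¹ = (t * s) * v * (t * s)⁻¹ := by
    intro s hs t ht
    rw [show s * t * v * (s * t)⁻¹ = s * (t * v * t⁻¹) * s⁻¹ by group,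
      show t * s * v * (t * s)⁻¹ = t * (s * v * s⁻¹) * t⁻¹ by group]
    rcases himg s hs with e | e <;> rcases himg t ht with e' | e' <;> rw [e, e'] <;>
      simp only [show s * (z * v) * s⁻¹ = s * z * s⁻¹ * (s * v * s⁻¹) by group,
        show t * (z * v) * t⁻¹ = t * z * t⁻¹ * (t * v * t⁻¹) by group, hfixz s hs, hfixz t ht, e, e']
  apply hne
  rw [commutatorElement_eq_one_iff_mul_comm]
  have h2 := hcomm x₀⁻¹ (inv_mem hx₀) y₀⁻¹ (inv_mem hy₀)
  have h5 : c * v * c⁻¹ = v := by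
    show ⁅x₀, y₀⁆ * v * ⁅x₀, y₀⁆⁻¹ = v
    rw [show ⁅x₀, y₀⁆ * v * ⁅x₀, y₀⁆⁻¹ = x₀ * y₀ * (x₀⁻¹ * y₀⁻¹ * v * (x₀⁻¹ * y₀⁻¹)⁻¹) * (x₀ * y₀)⁻¹ by
      rw [commutatorElement_def]; group, h2]
    group
  exact (mul_inv_eq_iff_eq_mul.1 h5).symm

theorem Pair'.card_eq (h : Loc (S : Subgroup G) A) (P : Pair' S A V W) : Nat.card V = 8 := by
  have h1 := P.card_mul h
  have h2 := P.card_ge h
  have h3 := (P.symm h).card_ge h
  nlinarith

theorem Pair'.centralizer_le (h : Loc (S : Subgroup G) A) (P : Pair' S A V W) {x : G}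
    (hx : x ∈ (S : Subgroup G)) (hxV : ∀ v ∈ V, x * v = v * x) : x ∈ A := by
  by_contra hxA
  obtain ⟨x₀, hx₀, y₀, hy₀, hall, v, hv, hne⟩ := P.exists_commutator h
  apply hne
  rw [commutatorElement_eq_one_iff_mul_comm]
  set c := ⁅x₀, y₀⁆
  have hA : ∀ a ∈ A, a * v = v * a := fun a ha => h.commA a ha v (P.leV hv)
  have key : ∀ y, (∀ w ∈ V, y * w = w * y) → c⁻¹ * y ∈ A → c * v = v * c := by
    intro y hy hm
    have h1 : c = y * (c⁻¹ * y)⁻¹ := by group
    rw [h1, mul_assoc, hA _ (inv_mem hm), ← mul_assoc, hy v hv, mul_assoc]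
  rcases hall x hx hxA with h1 | ⟨y, hy, h1⟩
  · exact (key x hxV h1).symm
  · refine (key ⁅x, y⁆ (fun w hw => ?_) h1).symm
    have hyw : y⁻¹ * w * y ∈ V := by simpa using P.invV y⁻¹ (inv_mem hy) w hw
    have h2 : x⁻¹ * (y⁻¹ * w * y) * x = y⁻¹ * w * y := by
      rw [mul_assoc x⁻¹, ← hxV _ hyw, inv_mul_cancel_left]
    have h3 : x * w * x⁻¹ = w := by rw [hxV w hw, mul_inv_cancel_right]
    calc ⁅x, y⁆ * w = x * y * (x⁻¹ * (y⁻¹ * w * y) * x) * y⁻¹ * (y * x⁻¹ * y⁻¹) := by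
          rw [commutatorElement_def]; group
      _ = x * w * x⁻¹ * ⁅x, y⁆ := by rw [h2, commutatorElement_def]; group
      _ = w * ⁅x, y⁆ := by rw [h3]

open MulAction in
/-- No nontrivial `r`-group of automorphisms of a member is normalized by `S`. -/
theorem Pair'.rGroup_eq_bot (h : Loc (S : Subgroup G) A) (P : Pair' S A V W)
    (hSV : (S : Subgroup G) ≤ normalizer (V : Set G)) {r : ℕ} (hr : r.Prime) (hr2 : r ≠ 2)
    (R : Subgroup (MulAut V)) (hR : IsPGroup r R)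
    (hinv : ∀ (s : G) (hs : s ∈ (S : Subgroup G)), ∀ ρ ∈ R,
      V.normalizerMonoidHom ⟨s, hSV hs⟩ * ρ * (V.normalizerMonoidHom ⟨s, hSV hs⟩)⁻¹ ∈ R) :
    R = ⊥ := by
  classical
  haveI : Fact r.Prime := ⟨hr⟩
  haveI : Finite (MulAut V) := Finite.of_injective _ DFunLike.coe_injective
  letI : CommGroup V :=
    { (inferInstance : Group V) with
      mul_comm := fun a b => Subtype.ext (h.commA a (P.leV a.2) b (P.leV b.2)) }
  letI : Fintype R := Fintype.ofFinite _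
  let f : ∀ s : (S : Subgroup G), MulAut V := fun s => V.normalizerMonoidHom ⟨s, hSV s.2⟩
  have hf : ∀ (s : (S : Subgroup G)) (v : V), ((f s v : V) : G) = (s : G) * v * (s : G)⁻¹ :=
    fun s v => rfl
  have hcard : Nat.card V = 8 := P.card_eq h
  obtain ⟨z, hz, hz1, hzf⟩ := exists_fix h P.leV P.neV P.invV
  have hfz : ∀ s : (S : Subgroup G), f s ⟨z, hz⟩ = ⟨z, hz⟩ := fun s => Subtype.ext (by
    rw [hf]
    show (s : G) * z * (s : G)⁻¹ = z
    rw [mem_centralizer_iff.1 hzf.2 s s.2, mul_inv_cancel_right])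
  have huniq : ∀ K : Subgroup V, K ≠ ⊥ → (∀ s, ∀ v ∈ K, f s v ∈ K) → (⟨z, hz⟩ : V) ∈ K := by
    intro K hK hKi
    obtain ⟨y, hy, hy1, hyf⟩ := exists_fix h (K := K.map V.subtype)
      ((map_subtype_le K).trans P.leV)
      (fun e => hK ((map_eq_bot_iff_of_injective K V.subtype_injective).1 e))
      (by rintro s hs _ ⟨v, hv, rfl⟩; exact ⟨f ⟨s, hs⟩ v, hKi _ v hv, hf _ v⟩)
    obtain ⟨v, hv, rfl⟩ := hy
    have he : z = v.1 := P.unique_fix h hz v.2 hzf hyf hz1 hy1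
    rwa [show (⟨z, hz⟩ : V) = v from Subtype.ext he]
  let C : Subgroup V :=
    { carrier := {v | ∀ ρ ∈ R, ρ v = v}
      one_mem' := fun ρ _ => map_one ρ
      mul_mem' := fun ha hb ρ hρ => by rw [map_mul, ha ρ hρ, hb ρ hρ]
      inv_mem' := fun ha ρ hρ => by rw [map_inv, ha ρ hρ] }
  have hCi : ∀ s, ∀ v ∈ C, f s v ∈ C := by
    intro s v hv ρ hρ
    have h1 := hinv (s : G)⁻¹ (inv_mem s.2) ρ hρ
    have h2 := hv _ h1
    have h3 : V.normalizerMonoidHom ⟨(s : G)⁻¹, hSV (inv_mem s.2)⟩ = (f s)⁻¹ := by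
      rw [← map_inv]; rfl
    rw [h3, inv_inv, MulAut.mul_apply, MulAut.mul_apply] at h2
    have h4 := congrArg (f s) h2
    rwa [MulAut.apply_inv_self] at h4
  by_cases hC : C = ⊥
  · by_contra hne
    -- the fixed points force r = 7
    have hmod := hR.card_modEq_card_fixedPoints V
    have hfp : Nat.card (fixedPoints R V) = 1 := by
      rw [Nat.card_eq_one_iff_unique]
      refine ⟨⟨fun a b => Subtype.ext ?_⟩, ⟨⟨1, fun ρ => map_one ρ.1⟩⟩⟩
      have key : ∀ c : fixedPoints R V, c.1 = 1 := fun c => by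
        have : c.1 ∈ C := fun ρ hρ => c.2 ⟨ρ, hρ⟩
        rwa [hC, mem_bot] at this
      rw [key a, key b]
    rw [hcard, hfp] at hmod
    have hr7 : r = 7 := by
      have h7 : r ∣ 7 := (Nat.modEq_iff_dvd' (by norm_num)).1 hmod.symm
      exact (Nat.prime_dvd_prime_iff_eq hr (by norm_num)).1 h7
    subst hr7
    have hR7 : Nat.card R = 7 := by
      have hinj : Function.Injective (fun ρ : R => (ρ.1.toEquiv : Equiv.Perm V)) := fun a b e =>
        Subtype.ext (MulEquiv.ext fun x => congrFun (congrArg (fun p : Equiv.Perm V => (p : V → V)) e) x)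
      let φ : R →* Equiv.Perm V := (MulAut.toPerm V).comp R.subtype
      have hdvd : Nat.card R ∣ Nat.card (Equiv.Perm V) :=
        Subgroup.card_dvd_of_injective φ hinj
      rw [Nat.card_perm, hcard] at hdvd
      obtain ⟨k, hk⟩ := IsPGroup.iff_card.1 hR
      rw [hk] at hdvd ⊢
      rcases k with _ | _ | k
      · exact absurd (Subgroup.card_eq_one.1 hk) hne
      · rfl
      · exact absurd ((Nat.pow_dvd_pow 7 (show 2 ≤ k + 2 by omega)).trans hdvd) (by decide)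
    obtain ⟨x₀, hx₀, y₀, hy₀, -, v, hv, hne'⟩ := P.exists_commutator h
    apply hne'
    set c := ⁅x₀, y₀⁆
    haveI : IsCyclic R := isCyclic_of_prime_card hR7
    obtain ⟨ρ, hρ⟩ := IsCyclic.exists_monoid_generator (α := R)
    -- conjugation by `S` acts by powers
    have hpow : ∀ s : (S : Subgroup G), ∃ n : ℕ, f s * ρ.1 * (f s)⁻¹ = ρ.1 ^ n := fun s => by
      obtain ⟨n, hn⟩ := hρ ⟨_, hinv s s.2 ρ.1 ρ.2⟩
      exact ⟨n, (congrArg Subtype.val hn).symm⟩
    have hcr : ∀ s t : (S : Subgroup G), f (s * t) * ρ.1 * (f (s * t))⁻¹ = f (t * s) * ρ.1 * (f (t * s))⁻¹ := by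
      intro s t
      obtain ⟨i, hi⟩ := hpow s
      obtain ⟨j, hj⟩ := hpow t
      have hmul : ∀ a b : (S : Subgroup G), f (a * b) = f a * f b := fun a b =>
        map_mul V.normalizerMonoidHom (⟨a, hSV a.2⟩ : normalizer (V : Set G)) ⟨b, hSV b.2⟩
      rw [hmul, hmul,
        show f s * f t * ρ.1 * (f s * f t)⁻¹ = f s * (f t * ρ.1 * (f t)⁻¹) * (f s)⁻¹ by group,
        show f t * f s * ρ.1 * (f t * f s)⁻¹ = f t * (f s * ρ.1 * (f s)⁻¹) * (f t)⁻¹ by group,
        hi, hj, ← conj_pow, ← conj_pow, hi, hj, ← pow_mul, ← pow_mul, mul_comm]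
    set fc := f ⁅(⟨x₀, hx₀⟩ : (S : Subgroup G)), ⟨y₀, hy₀⟩⁆ with hfc
    have hcomm : fc * ρ.1 = ρ.1 * fc := by
      have hmul : ∀ a b : (S : Subgroup G), f (a * b) = f a * f b := fun a b =>
        map_mul V.normalizerMonoidHom (⟨a, hSV a.2⟩ : normalizer (V : Set G)) ⟨b, hSV b.2⟩
      set xs : (S : Subgroup G) := ⟨x₀, hx₀⟩
      set ys : (S : Subgroup G) := ⟨y₀, hy₀⟩
      have h1 := hcr xs⁻¹ ys⁻¹
      have h2 : fc * ρ.1 * fc⁻¹ = ρ.1 := by
        have hfc' : fc = f (xs * ys) * f (xs⁻¹ * ys⁻¹) := by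
          rw [hfc, ← hmul, commutatorElement_def, ← mul_assoc]
        have hinv1 : f (xs * ys) * f (ys⁻¹ * xs⁻¹) = 1 := by
          rw [← hmul, show xs * ys * (ys⁻¹ * xs⁻¹) = 1 by group]
          exact map_one V.normalizerMonoidHom
        calc fc * ρ.1 * fc⁻¹
            = f (xs * ys) * (f (xs⁻¹ * ys⁻¹) * ρ.1 * (f (xs⁻¹ * ys⁻¹))⁻¹) * (f (xs * ys))⁻¹ := by
              rw [hfc']; group
          _ = (f (xs * ys) * f (ys⁻¹ * xs⁻¹)) * ρ.1 * (f (xs * ys) * f (ys⁻¹ * xs⁻¹))⁻¹ := by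
              rw [h1]; group
          _ = ρ.1 := by rw [hinv1, one_mul, inv_one, mul_one]
      exact mul_inv_eq_iff_eq_mul.1 h2
    -- it fixes the whole orbit
    have horb : ∀ y : V, fc y = y := by
      intro y
      by_cases hy : y = 1
      · rw [hy, map_one]
      have horbit : (Set.range fun n : Fin 7 => (ρ.1 ^ (n : ℕ)) (⟨z, hz⟩ : V)) = ({1} : Set V)ᶜ := by
        have hz' : (⟨z, hz⟩ : V) ≠ 1 := fun e => hz1 (congrArg Subtype.val e)
        have hinj' : Function.Injective fun n : Fin 7 => (ρ.1 ^ (n : ℕ)) (⟨z, hz⟩ : V) := by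
          intro a b hab
          by_contra hab'
          wlog hlt : (a : ℕ) < b generalizing a b
          · exact this hab.symm (Ne.symm hab') (by omega)
          have h1 : (ρ.1 ^ ((b : ℕ) - a)) (⟨z, hz⟩ : V) = ⟨z, hz⟩ := by
            apply (ρ.1 ^ (a : ℕ)).injective
            rw [← MulAut.mul_apply, ← pow_add, Nat.add_sub_cancel' hlt.le]
            exact hab.symm
          have hgen : ∀ σ ∈ R, σ (⟨z, hz⟩ : V) = ⟨z, hz⟩ := by
            intro σ hσ
            have hne1 : (⟨ρ.1 ^ ((b : ℕ) - a), pow_mem ρ.2 _⟩ : R) ≠ 1 := by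
              intro e
              have hord : orderOf ρ = 7 := hR7 ▸ orderOf_eq_card_of_forall_mem_zpowers fun x => by
                obtain ⟨n, hn⟩ := hρ x
                exact ⟨n, by simpa using hn⟩
              have hd := orderOf_dvd_of_pow_eq_one (show ρ ^ ((b : ℕ) - a) = 1 from e)
              rw [hord] at hd
              have := Nat.le_of_dvd (by omega) hd
              omega
            have h2 : (⟨σ, hσ⟩ : R) ∈ Subgroup.zpowers (⟨ρ.1 ^ ((b : ℕ) - a), pow_mem ρ.2 _⟩ : R) :=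
              mem_zpowers_of_prime_card hR7 hne1
            obtain ⟨n, hn⟩ := h2
            have h3 : σ ∈ MulAction.stabilizer (MulAut V) (⟨z, hz⟩ : V) := by
              rw [← show (ρ.1 ^ ((b : ℕ) - a)) ^ n = σ by simpa using congrArg Subtype.val hn]
              exact zpow_mem (MulAction.mem_stabilizer_iff.2 h1) n
            exact h3
          have h5 : (⟨z, hz⟩ : V) ∈ C := hgen
          rw [hC, mem_bot] at h5
          exact hz' h5
        refine Set.eq_of_subset_of_ncard_le ?_ ?_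
        · rintro _ ⟨n, rfl⟩ e
          exact hz' ((ρ.1 ^ (n : ℕ)).injective (e.trans (map_one _).symm))
        · rw [Set.ncard_range_of_injective hinj', Set.ncard_compl, hcard, Set.ncard_singleton,
            Nat.card_fin]
      obtain ⟨n, hn⟩ : y ∈ Set.range fun n : Fin 7 => (ρ.1 ^ (n : ℕ)) (⟨z, hz⟩ : V) :=
        horbit ▸ hy
      simp only at hn
      rw [← hn, ← MulAut.mul_apply, (Commute.pow_right hcomm _).eq, MulAut.mul_apply, hfc, hfz]
    have h6 := congrArg Subtype.val (horb ⟨v, hv⟩)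
    rw [hfc, hf] at h6
    rw [commutatorElement_eq_one_iff_mul_comm]
    exact (mul_inv_eq_iff_eq_mul.1 h6).symm
  · -- the norm map is injective
    let Nm : V →* V :=
      { toFun := fun v => ∏ ρ : R, ρ.1 v
        map_one' := by simp
        map_mul' := fun a b => by simp [Finset.prod_mul_distrib] }
    have hzC : (⟨z, hz⟩ : V) ∈ C := huniq C hC hCi
    have hNz : Nm ⟨z, hz⟩ ≠ 1 := by
      have h1 : Nm ⟨z, hz⟩ = (⟨z, hz⟩ : V) ^ Nat.card R := by
        show ∏ ρ : R, ρ.1 (⟨z, hz⟩ : V) = _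
        rw [Finset.prod_congr rfl fun ρ _ => hzC ρ.1 ρ.2, Finset.prod_const, Finset.card_univ,
          ← Nat.card_eq_fintype_card]
      intro e
      rw [h1] at e
      obtain ⟨k, hk⟩ := IsPGroup.iff_card.1 hR
      obtain ⟨j, hj⟩ := (hr.odd_of_ne_two hr2).pow (n := k)
      rw [hk, hj, pow_succ, pow_mul, show (⟨z, hz⟩ : V) ^ 2 = 1 from Subtype.ext (by
        show z ^ 2 = 1
        rw [sq, h.sqA z (P.leV hz)]), one_pow, one_mul] at e
      exact hz1 (congrArg Subtype.val e)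
    have hker : Nm.ker = ⊥ := by
      by_contra hne
      refine hNz (huniq Nm.ker hne fun s v hv => ?_)
      rw [MonoidHom.mem_ker] at hv ⊢
      have hre : Nm (f s v) = f s (Nm v) := by
        show ∏ ρ : R, ρ.1 (f s v) = f s (∏ ρ : R, ρ.1 v)
        rw [map_prod]
        let g : R → R := fun ρ => ⟨(f s)⁻¹ * ρ.1 * f s, by
          have h1 := hinv (s : G)⁻¹ (inv_mem s.2) ρ.1 ρ.2
          have h3 : V.normalizerMonoidHom ⟨(s : G)⁻¹, hSV (inv_mem s.2)⟩ = (f s)⁻¹ := by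
            rw [← map_inv]; rfl
          rwa [h3, inv_inv] at h1⟩
        have hg : Function.Bijective g := Finite.injective_iff_bijective.1 fun a b e =>
          Subtype.ext (mul_left_cancel (mul_right_cancel (Subtype.ext_iff.1 e)))
        exact Fintype.prod_bijective g hg _ _ fun ρ => by
          show _ = f s (((f s)⁻¹ * ρ.1 * f s) v)
          rw [MulAut.mul_apply, MulAut.mul_apply, MulAut.apply_inv_self]
      rw [hre, hv, map_one]
    rw [eq_bot_iff]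
    intro σ hσ
    rw [mem_bot]
    refine MulEquiv.ext fun x => (Nm.ker_eq_bot_iff.1 hker) ?_
    show ∏ ρ : R, ρ.1 (σ x) = ∏ ρ : R, ρ.1 x
    exact Fintype.prod_bijective (fun ρ : R => ρ * ⟨σ, hσ⟩) (Group.mulRight_bijective _) _ _
      fun ρ => rfl

/-- An automorphism group of odd order normalized by `S` is trivial. -/
theorem Pair'.odd_eq_bot (h : Loc (S : Subgroup G) A) (P : Pair' S A V W)
    (hSV : (S : Subgroup G) ≤ normalizer (V : Set G)) (O : Subgroup (MulAut V))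
    (hO : Odd (Nat.card O))
    (hinv : ∀ (s : G) (hs : s ∈ (S : Subgroup G)), ∀ ρ ∈ O,
      V.normalizerMonoidHom ⟨s, hSV hs⟩ * ρ * (V.normalizerMonoidHom ⟨s, hSV hs⟩)⁻¹ ∈ O) :
    O = ⊥ := by
  haveI : Finite (MulAut V) := Finite.of_injective _ DFunLike.coe_injective
  set T : Subgroup (MulAut V) := ((S : Subgroup G).subgroupOf (normalizer (V : Set G))).map
    V.normalizerMonoidHom with hTdef
  have hTn : T ≤ normalizer (O : Set (MulAut V)) := by
    rintro _ ⟨s, hs, rfl⟩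
    refine mem_normalizer_of_cj (eq_of_le_of_card_ge ?_ (card_cj _ O).ge)
    rintro _ ⟨ρ, hρ, rfl⟩
    exact hinv s.1 hs ρ hρ
  have hT2 : IsPGroup 2 T := ((S.isPGroup'.of_injective (subgroupOfEquivOfLe hSV).toMonoidHom
    (subgroupOfEquivOfLe hSV).injective).map _)
  have hcop : (Nat.card T).Coprime (Nat.card O) := by
    haveI : Fact (Nat.Prime 2) := ⟨Nat.prime_two⟩
    obtain ⟨k, hk⟩ := IsPGroup.iff_card.1 hT2
    rw [hk]
    exact Nat.Coprime.pow_left k (Nat.coprime_two_left.2 hO)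
  have hsolv : Group.IsSolvable T := by
    haveI : Fact (Nat.Prime 2) := ⟨Nat.prime_two⟩
    haveI := hT2.isNilpotent
    infer_instance
  rw [← Subgroup.card_eq_one]
  by_contra hne
  obtain ⟨r, hr, hrd⟩ := Nat.exists_prime_and_dvd hne
  haveI : Fact r.Prime := ⟨hr⟩
  have hr2 : r ≠ 2 := fun e => Nat.not_even_iff_odd.2 hO (even_iff_two_dvd.2 (e ▸ hrd))
  obtain ⟨Q, hQ⟩ := CfsgLib.Coprime.exists_invariant_sylow T O hTn hcop (Or.inl hsolv) r
  have hbot := P.rGroup_eq_bot h hSV hr hr2 ((Q : Subgroup O).map O.subtype) (Q.isPGroup'.map _)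
    (fun s hs ρ hρ => ((mem_normalizer_iff.1 (hQ ⟨⟨s, hSV hs⟩, hs, rfl⟩)) ρ).1 hρ)
  rw [map_eq_bot_iff_of_injective _ O.subtype_injective] at hbot
  have := Q.ne_bot_of_dvd_card hrd
  exact this hbot

end CfsgLib.M24Fusion
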