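import Cfsg.Agent.Lib.M24Fusion.Closed
import Cfsg.Agent.Lib.M24Fusion.Average

/-!
Two complementary subgroups of `A` invariant under its normalizer.
-/

set_option autoImplicit false
set_option linter.style.haveILetI false

namespace CfsgLib.M24Fusion

open Subgroup CfsgLib.TwoGroups.FT
open scoped commutatorElement

variable {G : Type*} [Group G] [Finite G] {S : Sylow 2 G} {A : Subgroup G}

theorem sylow_le_normalizer (h : Loc (S : Subgroup G) A) :
    (S : Subgroup G) ≤ normalizer (A : Set G) := fun s hs =>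
  mem_normalizer_of_cj (eq_of_le_of_card_ge
    (by rintro _ ⟨a, ha, rfl⟩; exact h.conjA s hs a ha) (card_cj s A).ge)

/-- A nontrivial invariant subgroup of `A` has a nontrivial fixed element. -/
theorem exists_fix (h : Loc (S : Subgroup G) A) {K : Subgroup G} (hK : K ≤ A) (hne : K ≠ ⊥)
    (hinv : ∀ s ∈ (S : Subgroup G), ∀ k ∈ K, s * k * s⁻¹ ∈ K) :
    ∃ z ∈ K, z ≠ 1 ∧ z ∈ fix (S : Subgroup G) A := by
  haveI : (K.subgroupOf (S : Subgroup G)).Normal := ⟨fun k hk s => hinv s s.2 k hk⟩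
  haveI : Group.IsNilpotent (S : Subgroup G) := S.isPGroup'.isNilpotent
  have hne' : K.subgroupOf (S : Subgroup G) ≠ ⊥ := fun e => hne (by
    rw [eq_bot_iff]
    intro k hk
    have h1 : (⟨k, h.le (hK hk)⟩ : (S : Subgroup G)) ∈ K.subgroupOf (S : Subgroup G) := hk
    rw [e, mem_bot] at h1
    exact congrArg Subtype.val h1)
  obtain ⟨⟨z, hz⟩, hz1⟩ := (Subgroup.ne_bot_iff_exists_ne_one).1
    (CfsgLib.OddOrder.PuigSeries.inf_center_ne_bot (K.subgroupOf (S : Subgroup G)) hne')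
  refine ⟨z, hz.2, fun e => hz1 (Subtype.ext (Subtype.ext e)), hK hz.2, fun s hs => ?_⟩
  exact congrArg Subtype.val (mem_center_iff.1 hz.1 ⟨s, hs⟩)

/-- An equivariant map of `A` of odd order is trivial. -/
theorem eq_id_of_odd (h : Loc (S : Subgroup G) A) (ψ : A →* A)
    (heq : ∀ (s : G) (hs : s ∈ (S : Subgroup G)) (a : A),
      (ψ ⟨s * a * s⁻¹, h.conjA s hs a a.2⟩ : G) = s * (ψ a) * s⁻¹)
    {m : ℕ} (hm : Odd m) (hψ : (⇑ψ)^[m] = id) : ∀ a, ψ a = a := by
  have hinj : Function.Injective ψ := by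
    obtain ⟨j, rfl⟩ : ∃ j, m = j + 1 := ⟨m - 1, (Nat.sub_add_cancel hm.pos).symm⟩
    intro a b hab
    have h1 := congrFun hψ a
    have h2 := congrFun hψ b
    rw [Function.iterate_succ_apply] at h1 h2
    rw [hab, h2] at h1
    exact h1.symm
  have hfixmap : ∀ a : A, (a : G) ∈ fix (S : Subgroup G) A → (ψ a : G) ∈ fix (S : Subgroup G) A := by
    intro a ha
    refine ⟨(ψ a).2, mem_centralizer_iff.2 fun s hs => ?_⟩
    have h1 := heq s hs a
    have h2 : (⟨s * a * s⁻¹, h.conjA s hs a a.2⟩ : A) = a := by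
      apply Subtype.ext
      show s * (a : G) * s⁻¹ = a
      rw [mem_centralizer_iff.1 ha.2 s hs, mul_inv_cancel_right]
    rw [h2] at h1
    exact (mul_inv_eq_iff_eq_mul.1 h1.symm)
  obtain ⟨x, hx, ⟨a₁, ha₁, hf₁, hne₁⟩, z₂, hz₂, hz₂'⟩ := h.half
  have hcmem : ∀ a : A, ⁅(a : G), x⁆ ∈ A := fun a => by
    rw [commutatorElement_def, mul_assoc (a : G) x, mul_assoc (a : G)]
    exact A.mul_mem a.2 (h.conjA x hx _ (A.inv_mem a.2))
  have hψc : ∀ a : A, ψ ⟨⁅(a : G), x⁆, hcmem a⟩ = ⟨⁅(ψ a : G), x⁆, hcmem (ψ a)⟩ := fun a => by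
    have e : (⟨⁅(a : G), x⁆, hcmem a⟩ : A) =
        a * ⟨x * (a⁻¹ : A) * x⁻¹, h.conjA x hx _ (a⁻¹ : A).2⟩ := by
      apply Subtype.ext
      show ⁅(a : G), x⁆ = a * (x * (a : G)⁻¹ * x⁻¹)
      rw [commutatorElement_def]; group
    apply Subtype.ext
    rw [e, map_mul, Subgroup.coe_mul, heq x hx, map_inv, Subgroup.coe_inv]
    show _ = ⁅(ψ a : G), x⁆
    rw [commutatorElement_def]
    group
  -- the fixed points are fixed
  set z₁ : G := ⁅a₁, x⁆ with hz₁
  have hz₁A : z₁ ∈ A := hf₁.1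
  have hz12 : z₂ * z₁ ≠ z₁ ∧ z₁ ≠ z₂ ∧ z₂ * z₁ ≠ z₂ ∧ z₂ ≠ 1 ∧ z₂ * z₁ ≠ 1 := by
    have h1 : z₁ ≠ z₂ := fun e => hz₂' a₁ ha₁ e
    have h2 : z₂ ≠ 1 := fun e => hz₂' 1 (one_mem A) (by rw [e]; simp)
    refine ⟨fun e => h2 (mul_eq_right.1 e), h1, fun e => hne₁ (mul_eq_left.1 e), h2, fun e => ?_⟩
    exact h1 ((inv_eq_of_mul_eq_one_right e).symm.trans (inv_eq_of_mul_eq_one_right (h.sqA z₂ hz₂.1)))
  have hlist : ∀ y ∈ fix (S : Subgroup G) A, y = 1 ∨ y = z₁ ∨ y = z₂ ∨ y = z₂ * z₁ := by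
    have hsub' : ({1, z₁, z₂, z₂ * z₁} : Set G) ⊆ (fix (S : Subgroup G) A : Set G) := by
      intro y hy
      simp only [Set.mem_insert_iff, Set.mem_singleton_iff] at hy
      rcases hy with rfl | rfl | rfl | rfl
      exacts [one_mem _, hf₁, hz₂, mul_mem hz₂ hf₁]
    obtain ⟨m1, m2, m3, m4, m5⟩ := hz12
    have hcard : ({1, z₁, z₂, z₂ * z₁} : Set G).ncard = 4 := by
      rw [Set.ncard_insert_of_notMem, Set.ncard_insert_of_notMem, Set.ncard_pair m3.symm] <;>
        simp only [Set.mem_insert_iff, Set.mem_singleton_iff, not_or]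
      · exact ⟨m2, m1.symm⟩
      · exact ⟨hne₁.symm, m4.symm, m5.symm⟩
    have heqs : ({1, z₁, z₂, z₂ * z₁} : Set G) = (fix (S : Subgroup G) A : Set G) :=
      Set.eq_of_subset_of_ncard_le hsub' (by
        rw [hcard, ← Nat.card_coe_set_eq]
        exact h.card_fix.le)
    intro y hy
    have hy' : y ∈ ({1, z₁, z₂, z₂ * z₁} : Set G) := heqs ▸ hy
    simpa only [Set.mem_insert_iff, Set.mem_singleton_iff] using hy'
  have hI : ∀ a : A, ⁅(a : G), x⁆ ∈ fix (S : Subgroup G) A →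
      ⁅(a : G), x⁆ = 1 ∨ ⁅(a : G), x⁆ = z₁ := by
    intro a ha
    rcases hlist _ ha with e | e | e | e
    · exact Or.inl e
    · exact Or.inr e
    · exact absurd e (hz₂' a a.2)
    · exfalso
      refine hz₂' (a * a₁) (A.mul_mem a.2 ha₁) ?_
      calc ⁅(a : G) * a₁, x⁆ = a * z₁ * (x * (a : G)⁻¹ * x⁻¹) := by
            rw [hz₁, commutatorElement_def, commutatorElement_def]; group
        _ = z₁ * ⁅(a : G), x⁆ := by
            rw [h.commA a a.2 z₁ hz₁A, commutatorElement_def]; group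
        _ = z₁ * (z₂ * z₁) := by rw [e]
        _ = z₂ := by rw [← mul_assoc, h.commA z₁ hz₁A z₂ hz₂.1, mul_assoc, h.sqA z₁ hz₁A, mul_one]
  have hz₁f : ψ ⟨z₁, hz₁A⟩ = ⟨z₁, hz₁A⟩ := by
    have h1 := hψc ⟨a₁, ha₁⟩
    have h2 := hfixmap ⟨z₁, hz₁A⟩ hf₁
    rw [show (⟨z₁, hz₁A⟩ : A) = ⟨⁅a₁, x⁆, hcmem ⟨a₁, ha₁⟩⟩ from rfl, h1] at h2 ⊢
    rcases hI _ h2 with e | e
    · exfalso
      apply hne₁
      have h3 : ψ ⟨⁅a₁, x⁆, hcmem ⟨a₁, ha₁⟩⟩ = ψ 1 := by rw [h1, map_one]; exact Subtype.ext e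
      exact congrArg Subtype.val (hinj h3)
    · exact Subtype.ext e
  have hz₂f : ψ ⟨z₂, hz₂.1⟩ = ⟨z₂, hz₂.1⟩ := by
    rcases hlist _ (hfixmap ⟨z₂, hz₂.1⟩ hz₂) with e | e | e | e
    · exact absurd (congrArg Subtype.val (hinj ((Subtype.ext e : ψ ⟨z₂, hz₂.1⟩ = 1).trans (map_one ψ).symm)))
        hz12.2.2.2.1
    · exact absurd (congrArg Subtype.val (hinj ((Subtype.ext e : ψ ⟨z₂, hz₂.1⟩ = ⟨z₁, hz₁A⟩).trans hz₁f.symm)))
        (Ne.symm hz12.2.1)
    · exact Subtype.ext e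
    · exfalso
      have e' : ψ ⟨z₂, hz₂.1⟩ = ⟨z₂, hz₂.1⟩ * ⟨z₁, hz₁A⟩ := Subtype.ext e
      have hiter : ∀ n : ℕ, (⇑ψ)^[n] ⟨z₂, hz₂.1⟩ =
          if Even n then ⟨z₂, hz₂.1⟩ else ⟨z₂, hz₂.1⟩ * ⟨z₁, hz₁A⟩ := by
        intro n
        induction n with
        | zero => simp
        | succ n ih =>
          rw [Function.iterate_succ_apply', ih]
          by_cases hn : Even n
          · rw [if_pos hn, if_neg (by simp [Nat.even_add_one, hn]), e']
          · rw [if_neg hn, if_pos (by simp [Nat.even_add_one, hn]), map_mul, e', hz₁f, mul_assoc]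
            apply Subtype.ext
            show z₂ * (z₁ * z₁) = z₂
            rw [h.sqA z₁ hz₁A, mul_one]
      have h4 := hiter m
      rw [hψ, if_neg (Nat.not_even_iff_odd.2 hm)] at h4
      exact hz12.2.2.1 (congrArg Subtype.val h4).symm
  have hfixed : ∀ y : A, (y : G) ∈ fix (S : Subgroup G) A → ψ y = y := by
    intro y hy
    rcases hlist y hy with e | e | e | e
    · rw [show y = 1 from Subtype.ext e, map_one]
    · rw [show y = ⟨z₁, hz₁A⟩ from Subtype.ext e, hz₁f]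
    · rw [show y = ⟨z₂, hz₂.1⟩ from Subtype.ext e, hz₂f]
    · rw [show y = ⟨z₂, hz₂.1⟩ * ⟨z₁, hz₁A⟩ from Subtype.ext e, map_mul, hz₂f, hz₁f]
  -- the displacements
  let δ : A →* G :=
    { toFun := fun a => (ψ a : G) * (a : G)⁻¹
      map_one' := by simp
      map_mul' := fun a b => by
        rw [map_mul, Subgroup.coe_mul, Subgroup.coe_mul, mul_inv_rev,
          show ((ψ a : G) * ψ b) * ((b : G)⁻¹ * (a : G)⁻¹) = ψ a * ((ψ b : G) * (b : G)⁻¹ * (a : G)⁻¹) by group,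
          h.commA _ (A.mul_mem (ψ b).2 (A.inv_mem b.2)) _ (A.inv_mem a.2), ← mul_assoc] }
  intro a
  by_contra hne
  have hδle : δ.range ≤ A := by
    rintro _ ⟨b, rfl⟩
    exact A.mul_mem (ψ b).2 (A.inv_mem b.2)
  obtain ⟨z, ⟨b, hb⟩, hz1, hzf⟩ := exists_fix h hδle (fun e => hne (by
    have h1 : δ a ∈ δ.range := ⟨a, rfl⟩
    rw [e, mem_bot] at h1
    exact Subtype.ext (mul_inv_eq_one.1 h1))) (by
    rintro s hs _ ⟨b, rfl⟩
    refine ⟨⟨s * b * s⁻¹, h.conjA s hs b b.2⟩, ?_⟩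
    show (ψ ⟨s * b * s⁻¹, h.conjA s hs b b.2⟩ : G) * (s * b * s⁻¹)⁻¹ = s * ((ψ b : G) * (b : G)⁻¹) * s⁻¹
    rw [heq s hs b]; group)
  have hzA : z ∈ A := hzf.1
  have hb' : ψ b = ⟨z, hzA⟩ * b := Subtype.ext (by
    show (ψ b : G) = z * b
    rw [← hb]
    show (ψ b : G) = ψ b * (b : G)⁻¹ * b
    group)
  have hiter : ∀ n : ℕ, (⇑ψ)^[n] b = (⟨z, hzA⟩ : A) ^ n * b := by
    intro n
    induction n with
    | zero => simp
    | succ n ih =>
      rw [Function.iterate_succ_apply', ih, map_mul, map_pow, hfixed ⟨z, hzA⟩ hzf, hb', pow_succ, mul_assoc]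
  have h4 := hiter m
  rw [hψ] at h4
  obtain ⟨j, rfl⟩ := hm
  have h5 : (⟨z, hzA⟩ : A) ^ (2 * j + 1) = 1 := mul_eq_right.1 h4.symm
  rw [pow_succ, pow_mul, show (⟨z, hzA⟩ : A) ^ 2 = 1 from Subtype.ext (by
    show z ^ 2 = 1
    rw [sq, h.sqA z hzA]), one_pow, one_mul] at h5
  exact hz1 (congrArg Subtype.val h5)

/-- The invariant decomposition. -/
theorem exists_invariant_pair (h : Loc (S : Subgroup G) A) :
    ∃ V W : Subgroup G, V ≤ A ∧ W ≤ A ∧ V ⊓ W = ⊥ ∧ (∀ a ∈ A, ∃ v ∈ V, ∃ w ∈ W, a = v * w) ∧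
      V ≠ ⊥ ∧ W ≠ ⊥ ∧ (∀ n ∈ normalizer (A : Set G), ∀ v ∈ V, n * v * n⁻¹ ∈ V) ∧
      ∀ n ∈ normalizer (A : Set G), ∀ w ∈ W, n * w * n⁻¹ ∈ W := by
  classical
  letI : CommGroup A :=
    { (inferInstance : Group A) with mul_comm := fun a b => Subtype.ext (h.commA a a.2 b b.2) }
  letI : Module (ZMod 2) (Additive A) := AddCommGroup.zmodModule fun x => by
    apply Additive.toMul.injective
    rw [toMul_nsmul, toMul_zero, sq]
    exact Subtype.ext (h.sqA _ x.toMul.2)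
  let N := normalizer (A : Set G)
  let cn : N → A →* A := fun n =>
    { toFun := fun a => ⟨(n : G) * a * (n : G)⁻¹, (mem_normalizer_iff.1 n.2 a).1 a.2⟩
      map_one' := Subtype.ext (by simp)
      map_mul' := fun a b => Subtype.ext (by simp) }
  let ρ : Representation (ZMod 2) N (Additive A) :=
    { toFun := fun n => (MonoidHom.toAdditive (cn n)).toZModLinearMap 2
      map_one' := by
        refine LinearMap.ext fun x => Additive.toMul.injective (Subtype.ext ?_)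
        show ((1 : N) : G) * _ * ((1 : N) : G)⁻¹ = _
        rw [Subgroup.coe_one, one_mul, inv_one, mul_one]
        rfl
      map_mul' := fun n n' => by
        refine LinearMap.ext fun x => Additive.toMul.injective (Subtype.ext ?_)
        show ((n * n' : N) : G) * (x.toMul : G) * ((n * n' : N) : G)⁻¹ =
          (n : G) * ((n' : G) * (x.toMul : G) * (n' : G)⁻¹) * (n : G)⁻¹
        rw [Subgroup.coe_mul]
        group }
  have hρ : ∀ (n : N) (a : A), ((ρ n (Additive.ofMul a)).toMul : G) = (n : G) * a * (n : G)⁻¹ :=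
    fun n a => rfl
  let R : Subgroup N := (S : Subgroup G).subgroupOf N
  have hR : Odd R.index := sylow_relIndex_odd S (sylow_le_normalizer h)
  -- the projection
  obtain ⟨V₀, W₀, hV₀, hW₀, cV, cW, hd, iV, iW⟩ := h.split
  let sub : Subgroup G → Submodule (ZMod 2) (Additive A) := fun K =>
    AddSubgroup.toZModSubmodule 2 (Subgroup.toAddSubgroup (K.subgroupOf A))
  have hsub : ∀ K x, x ∈ sub K ↔ (x.toMul : G) ∈ K := fun K x => Iff.rfl
  have hprod : ∀ a : A, ∃ v ∈ V₀, ∃ w ∈ W₀, (a : G) = v * w := by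
    intro a
    let φ : V₀ × W₀ → A := fun p => ⟨p.1.1 * p.2.1, A.mul_mem (hV₀ p.1.2) (hW₀ p.2.2)⟩
    have hφ : Function.Injective φ := by
      rintro ⟨v, w⟩ ⟨v', w'⟩ he
      have he' : (v : G) * w = v' * w' := Subtype.ext_iff.1 he
      have h1 : (v' : G)⁻¹ * v = w' * (w : G)⁻¹ := by
        rw [eq_mul_inv_iff_mul_eq, mul_assoc, he', inv_mul_cancel_left]
      have h2 : (v' : G)⁻¹ * v ∈ V₀ ⊓ W₀ :=
        ⟨V₀.mul_mem (V₀.inv_mem v'.2) v.2, h1 ▸ W₀.mul_mem w'.2 (W₀.inv_mem w.2)⟩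
      rw [hd, mem_bot, inv_mul_eq_one] at h2
      refine Prod.ext (Subtype.ext h2.symm) (Subtype.ext ?_)
      rw [h2] at he'
      exact mul_left_cancel he'
    obtain ⟨⟨v, w⟩, he⟩ := (hφ.bijective_of_nat_card_le (by
      rw [Nat.card_prod, cV, cW, h.cardA])).2 a
    exact ⟨v, v.2, w, w.2, congrArg Subtype.val he.symm⟩
  have hcompl : IsCompl (sub V₀) (sub W₀) := by
    refine ⟨?_, ?_⟩
    · rw [Submodule.disjoint_def]
      intro x hxV hxW
      have h1 : (x.toMul : G) ∈ V₀ ⊓ W₀ := ⟨(hsub _ _).1 hxV, (hsub _ _).1 hxW⟩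
      rw [hd, mem_bot] at h1
      exact Additive.toMul.injective (Subtype.ext h1)
    · rw [codisjoint_iff, eq_top_iff]
      intro x _
      obtain ⟨v, hv, w, hw, he⟩ := hprod x.toMul
      rw [Submodule.mem_sup]
      exact ⟨Additive.ofMul ⟨v, hV₀ hv⟩, hv, Additive.ofMul ⟨w, hW₀ hw⟩, hw,
        Additive.toMul.injective (Subtype.ext he.symm)⟩
  set e := (sub V₀).projection (sub W₀) hcompl with hedef
  have he : ∀ r ∈ R, ρ r * e = e * ρ r := by
    intro r hr
    apply LinearMap.ext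
    intro x
    obtain ⟨y, hy, z, hz, rfl⟩ := Submodule.mem_sup.1
      (show x ∈ sub V₀ ⊔ sub W₀ by rw [hcompl.sup_eq_top]; trivial)
    have hy' : ρ r y ∈ sub V₀ := iV r.1 hr _ hy
    have hz' : ρ r z ∈ sub W₀ := iW r.1 hr _ hz
    simp only [Module.End.mul_apply, map_add, hedef, Submodule.projection_apply_of_mem_left hcompl hy,
      Submodule.projection_apply_of_mem_right hcompl hz, map_zero, add_zero,
      Submodule.projection_apply_of_mem_left hcompl hy',
      Submodule.projection_apply_of_mem_right hcompl hz']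
  have hfin : ∀ (K : Submodule (ZMod 2) (Additive A)) (d : ℕ), Nat.card K = 2 ^ d →
      Module.finrank (ZMod 2) K = d := by
    intro K d hK
    letI := Fintype.ofFinite K
    have h1 := Module.card_eq_pow_finrank (K := ZMod 2) (V := K)
    rw [ZMod.card, ← Nat.card_eq_fintype_card, hK] at h1
    exact (Nat.pow_right_injective (le_refl 2) h1).symm
  have hVcard : Nat.card (sub V₀) = 2 ^ 3 :=
    (Nat.card_congr (subgroupOfEquivOfLe hV₀).toEquiv).trans cV
  have htr : LinearMap.trace (ZMod 2) (Additive A) e = 1 := by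
    rw [LinearMap.IsProj.trace (p := sub V₀) ⟨fun x => Submodule.projection_apply_mem hcompl x,
      fun x hx => Submodule.projection_apply_of_mem_left hcompl hx⟩, hfin _ 3 hVcard]
    rfl
  have hdim : (Module.finrank (ZMod 2) (Additive A) : ZMod 2) = 0 := by
    rw [← finrank_top (ZMod 2) (Additive A), hfin ⊤ 6 ((Nat.card_congr (Equiv.Set.univ _)).trans
      (by show Nat.card A = _; rw [h.cardA]; rfl))]
    rfl
  obtain ⟨p, hp, hp0, hp1, hcomm⟩ := exists_equivariant_idempotent ρ R hR e he htr hdim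
    (fun f hf m hm hfm => by
      let ψ : A →* A :=
        { toFun := fun a => (f (Additive.ofMul a)).toMul
          map_one' := by rw [ofMul_one, map_zero]; rfl
          map_mul' := fun a b => by rw [ofMul_mul, map_add]; rfl }
      have hψ := eq_id_of_odd h ψ (fun s hs a => by
          have h1 := LinearMap.congr_fun (hf ⟨s, sylow_le_normalizer h hs⟩ hs) (Additive.ofMul a)
          exact congrArg (fun y => ((Additive.toMul y : A) : G)) h1.symm) hm (by
          funext a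
          have hit : ∀ n : ℕ, (⇑ψ)^[n] a = ((f ^ n) (Additive.ofMul a)).toMul := by
            intro n
            induction n with
            | zero => rfl
            | succ n ih => rw [Function.iterate_succ_apply', ih, pow_succ']; rfl
          rw [hit, hfm]
          rfl)
      exact LinearMap.ext fun x => congrArg Additive.ofMul (hψ x.toMul))
  have hcn : ∀ (n : G) (hn : n ∈ N) (a : A), p (ρ ⟨n, hn⟩ (Additive.ofMul a)) =
      ρ ⟨n, hn⟩ (p (Additive.ofMul a)) := fun n hn a => LinearMap.congr_fun (hcomm ⟨n, hn⟩).symm _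
  let V : Subgroup G := ((AddSubgroup.toSubgroup' (LinearMap.range p).toAddSubgroup).map A.subtype)
  let W : Subgroup G := ((AddSubgroup.toSubgroup' (LinearMap.ker p).toAddSubgroup).map A.subtype)
  have hmemV : ∀ a : A, (a : G) ∈ V ↔ p (Additive.ofMul a) = Additive.ofMul a := by
    intro a
    constructor
    · rintro ⟨b, ⟨y, hy⟩, hba⟩
      have hb : b = a := Subtype.ext hba
      rw [← hb, show Additive.ofMul b = p y from hy.symm, ← Module.End.mul_apply, hp.eq]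
    · exact fun ha => ⟨a, ⟨_, ha⟩, rfl⟩
  have hmemW : ∀ a : A, (a : G) ∈ W ↔ p (Additive.ofMul a) = 0 := by
    intro a
    constructor
    · rintro ⟨b, hb, hba⟩
      rw [← show b = a from Subtype.ext hba]
      exact hb
    · exact fun ha => ⟨a, ha, rfl⟩
  refine ⟨V, W, map_subtype_le _, map_subtype_le _, ?_, ?_, ?_, ?_, ?_, ?_⟩
  · rw [eq_bot_iff_forall]
    intro x hx
    obtain ⟨a, ha, rfl⟩ : ∃ a : A, (a : G) ∈ V ⊓ W ∧ (a : G) = x :=
      ⟨⟨x, map_subtype_le _ hx.1⟩, hx, rfl⟩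
    have h1 := (hmemV a).1 ha.1
    rw [(hmemW a).1 ha.2] at h1
    exact congrArg (fun y : Additive A => ((Additive.toMul y : A) : G)) h1.symm
  · intro a ha
    set y := p (Additive.ofMul (⟨a, ha⟩ : A)) with hy
    refine ⟨(y.toMul : G), (hmemV _).2 ?_, ((Additive.ofMul (⟨a, ha⟩ : A) - y).toMul : G), (hmemW _).2 ?_, ?_⟩
    · rw [ofMul_toMul, hy, ← Module.End.mul_apply, hp.eq]
    · rw [ofMul_toMul, map_sub, hy, ← Module.End.mul_apply, hp.eq, sub_self]
    · rw [← Subgroup.coe_mul, ← toMul_add, add_sub_cancel]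
      rfl
  · intro hb
    refine hp0 (LinearMap.ext fun x => ?_)
    have h1 : ((p x).toMul : G) ∈ V := (hmemV _).2 (by rw [ofMul_toMul, ← Module.End.mul_apply, hp.eq])
    rw [hb, mem_bot] at h1
    exact Additive.toMul.injective (Subtype.ext h1)
  · intro hb
    refine hp1 (LinearMap.ext fun x => ?_)
    have h1 : ((x - p x).toMul : G) ∈ W := (hmemW _).2
      (by rw [ofMul_toMul, map_sub, ← Module.End.mul_apply, hp.eq, sub_self])
    rw [hb, mem_bot] at h1
    have h2 : x - p x = 0 := Additive.toMul.injective (Subtype.ext h1)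
    exact (sub_eq_zero.1 h2).symm
  · intro n hn v hv
    obtain ⟨a, rfl⟩ : ∃ a : A, (a : G) = v := ⟨⟨v, map_subtype_le _ hv⟩, rfl⟩
    rw [← hρ ⟨n, hn⟩ a, hmemV, ofMul_toMul, hcn n hn a, (hmemV a).1 hv]
  · intro n hn v hv
    obtain ⟨a, rfl⟩ : ∃ a : A, (a : G) = v := ⟨⟨v, map_subtype_le _ hv⟩, rfl⟩
    rw [← hρ ⟨n, hn⟩ a, hmemW, ofMul_toMul, hcn n hn a, (hmemW a).1 hv, map_zero]

end CfsgLib.M24Fusion
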