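import Cfsg.Agent.Lib.M24Fusion.Model
import Cfsg.Agent.Lib.M24Fusion.Main

/-!
Transport of the local data to groups with such Sylow 2-subgroups.
-/

set_option autoImplicit false
set_option linter.style.haveILetI false

namespace CfsgLib.M24Fusion

open Subgroup Cfsg

/-- The local data of the central quotient of any Sylow 2-subgroup of `M₂₄`. -/
theorem exists_loc_sylow (P : Sylow 2 ↥Cfsg.M24) :
    Nat.card (P : Subgroup ↥Cfsg.M24) = 2 ^ 10 ∧
      ∃ A : Subgroup (↥(P : Subgroup ↥Cfsg.M24) ⧸ center ↥(P : Subgroup ↥Cfsg.M24)), Loc ⊤ A := by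
  haveI : Fact (Nat.Prime 2) := ⟨Nat.prime_two⟩
  obtain ⟨T, hT, A₀, hA₀⟩ := exists_loc
  obtain ⟨Q, hQ⟩ := (IsPGroup.of_card hT).exists_le_sylow
  have hQcard : Nat.card (Q : Subgroup ↥Cfsg.M24) ≤ Nat.card T := by
    obtain ⟨n, hn⟩ := IsPGroup.iff_card.mp Q.isPGroup'
    have hd : 2 ^ n ∣ Nat.card ↥Cfsg.M24 := hn ▸ (Q : Subgroup ↥Cfsg.M24).card_subgroup_dvd_card
    rw [hT, hn]
    refine Nat.pow_le_pow_right (by norm_num) ?_
    by_contra hlt
    have h11 : 2 ^ 11 ∣ Nat.card ↥Cfsg.M24 :=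
      (Nat.pow_dvd_pow 2 (by omega)).trans hd
    rw [CfsgLib.Golay.natCard_M24] at h11
    norm_num at h11
  have hTQ : T = (Q : Subgroup ↥Cfsg.M24) := Subgroup.eq_of_le_of_card_ge hQ hQcard
  subst hTQ
  let e : ↥(Q : Subgroup ↥Cfsg.M24) ≃* ↥(P : Subgroup ↥Cfsg.M24) := Q.equiv P
  refine ⟨by rw [← Nat.card_congr e.toEquiv, hT], ?_⟩
  let ε := QuotientGroup.congr (Subgroup.center ↥(Q : Subgroup ↥Cfsg.M24))
    (Subgroup.center ↥(P : Subgroup ↥Cfsg.M24)) e (by
      ext x
      constructor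
      · rintro ⟨y, hy, rfl⟩
        rw [Subgroup.mem_center_iff]
        intro g
        obtain ⟨g', rfl⟩ := e.surjective g
        show e g' * e y = e y * e g'
        rw [← map_mul, ← map_mul, Subgroup.mem_center_iff.mp hy g']
      · intro hx
        refine ⟨e.symm x, Subgroup.mem_center_iff.mpr fun g => e.injective ?_,
          e.apply_symm_apply x⟩
        rw [map_mul, map_mul, MulEquiv.apply_symm_apply, Subgroup.mem_center_iff.mp hx (e g)])
  have h := hA₀.map ε.toMonoidHom ε.injective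
  rw [Subgroup.map_top_of_surjective ε.toMonoidHom ε.surjective] at h
  exact ⟨_, h⟩

/-- The local data in a group whose Sylow 2-subgroup is isomorphic to that quotient. -/
theorem exists_loc_of_equiv {G : Type*} [Group G] (S : Subgroup G) (P : Sylow 2 ↥Cfsg.M24)
    (e : ↥S ≃* (↥(P : Subgroup ↥Cfsg.M24) ⧸ center ↥(P : Subgroup ↥Cfsg.M24))) :
    ∃ A : Subgroup G, Loc S A := by
  obtain ⟨-, A, hA⟩ := exists_loc_sylow P
  have h := hA.map (S.subtype.comp e.symm.toMonoidHom)
    (S.subtype_injective.comp e.symm.injective)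
  rw [← MonoidHom.range_eq_map, MonoidHom.range_comp,
    MonoidHom.range_eq_top.2 e.symm.surjective, ← MonoidHom.range_eq_map, Subgroup.range_subtype] at h
  exact ⟨_, h⟩

end CfsgLib.M24Fusion
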